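import Mathlib
import Cfsg.Agent.Lib.Zsigmondy
import Cfsg.Agent.Prune
set_option linter.all false
prune_inst 0x7f00000000000000000000000000000000000000000000000000000000000000000000000000000000000000000000000000000000000000000000000000000000000000000000000000000000000000003fffffffffffffffffffffffffffbeffbdffffffff
open scoped Cfsg.Agent.FastGrp

/-!
# Arithmetic of the order of `E₈(q)` (helper416)

`c m q = |Φ_m(q)|`, `N q = |E₈(q)|`.
-/

set_option autoImplicit false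

namespace Cfsg.Agent.H416.Arith

open Polynomial Cfsg.Agent.Lib.Zsigmondy

/-- the value of the cyclotomic polynomial as a natural number -/
noncomputable def c (m q : ℕ) : ℕ := ((cyclotomic m ℤ).eval (q : ℤ)).natAbs

theorem cast_c (m : ℕ) {q : ℕ} (hq : 2 ≤ q) : ((c m q : ℕ) : ℤ) = (cyclotomic m ℤ).eval (q : ℤ) := by
  rw [c, Int.natCast_natAbs, abs_of_pos]
  exact cyclotomic_pos' m (by exact_mod_cast (show 1 < q by omega))

theorem c_pos (m : ℕ) {q : ℕ} (hq : 2 ≤ q) : 0 < c m q := by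
  have h : (0 : ℤ) < (c m q : ℕ) := by
    rw [cast_c m hq]
    exact cyclotomic_pos' m (by exact_mod_cast (show 1 < q by omega))
  exact_mod_cast h

theorem prod_c {n q : ℕ} (hn : 0 < n) (hq : 2 ≤ q) : ∏ i ∈ n.divisors, c i q = q ^ n - 1 := by
  have h1 : 1 ≤ q ^ n := Nat.one_le_pow _ _ (by omega)
  have h : ((∏ i ∈ n.divisors, c i q : ℕ) : ℤ) = ((q ^ n - 1 : ℕ) : ℤ) := by
    rw [Nat.cast_prod, Nat.cast_sub h1]
    have h2 := congrArg (eval (q : ℤ)) (prod_cyclotomic_eq_X_pow_sub_one hn ℤ)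
    rw [eval_prod] at h2
    simp only [eval_sub, eval_pow, eval_X, eval_one] at h2
    push_cast
    rw [← h2]
    exact Finset.prod_congr rfl fun i _ => cast_c i hq
  exact_mod_cast h

theorem c_dvd {m n q : ℕ} (hn : 0 < n) (hq : 2 ≤ q) (h : m ∣ n) : c m q ∣ q ^ n - 1 := by
  rw [← prod_c hn hq]
  exact Finset.dvd_prod_of_mem _ (Nat.mem_divisors.2 ⟨h, hn.ne'⟩)

theorem order_of_dvd {m q ℓ : ℕ} (hq : 2 ≤ q) (hℓ : ℓ.Prime) (h : ℓ ∣ c m q) (hm : ¬ ℓ ∣ m) (n : ℕ) :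
    ℓ ∣ q ^ n - 1 ↔ m ∣ n := by
  have : Fact ℓ.Prime := ⟨hℓ⟩
  rw [dvd_pow_sub_one_iff (by omega)]
  have h1 : NeZero (m : ZMod ℓ) := ⟨by rw [Ne, ZMod.natCast_eq_zero_iff]; exact hm⟩
  have h2 : IsRoot (cyclotomic m (ZMod ℓ)) (q : ZMod ℓ) := by
    rw [IsRoot.def, ← map_cyclotomic_int, eval_map, ← Int.cast_natCast (R := ZMod ℓ), ← eq_intCast (Int.castRingHom (ZMod ℓ)),
      eval₂_at_apply, eq_intCast, ZMod.intCast_zmod_eq_zero_iff_dvd]
    rw [c, ← Int.natCast_dvd_natCast, Int.dvd_natAbs] at h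
    exact h
  have h3 := (isRoot_cyclotomic_iff.1 h2).eq_orderOf
  rw [← h3]

theorem not_dvd_base {m q ℓ : ℕ} (hq : 2 ≤ q) (hℓ : ℓ.Prime) (h : ℓ ∣ c m q) (hm0 : 0 < m) : ¬ ℓ ∣ q := by
  intro h1
  have h2 := h.trans (c_dvd hm0 hq (dvd_refl m))
  have h3 : ℓ ∣ q ^ m := h1.trans (dvd_pow_self q hm0.ne')
  have h4 : 1 ≤ q ^ m := Nat.one_le_pow _ _ (by omega)
  have h5 := (Nat.dvd_sub h3 h2)
  rw [Nat.sub_sub_self h4] at h5
  exact hℓ.one_lt.ne' (Nat.dvd_one.1 h5)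

/-! ### explicit values -/

theorem eval_24 (x : ℤ) : (cyclotomic 24 ℤ).eval x = x ^ 8 - x ^ 4 + 1 := by
  have h8 : ∀ y : ℤ, (cyclotomic 8 ℤ).eval y = y ^ 4 + 1 := by
    intro y
    rw [show (8 : ℕ) = 2 ^ (2 + 1) by norm_num, cyclotomic_prime_pow_eq_geom_sum Nat.prime_two]
    simp [Finset.sum_range_succ]; ring
  have h := eval_cyclotomic_mul (r := 3) (m := 8) Nat.prime_three (by norm_num) x
  rw [h8, h8] at h
  have h0 : x ^ 4 + 1 ≠ 0 := by positivity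
  apply mul_right_cancel₀ h0
  rw [show (24 : ℕ) = 8 * 3 by norm_num, ← h]
  ring

theorem eval_15 (x : ℤ) : (cyclotomic 15 ℤ).eval x = x ^ 8 - x ^ 7 + x ^ 5 - x ^ 4 + x ^ 3 - x + 1 := by
  have h3 : ∀ y : ℤ, (cyclotomic 3 ℤ).eval y = y ^ 2 + y + 1 := by
    intro y
    rw [cyclotomic_three]; simp
  have h := eval_cyclotomic_mul (r := 5) (m := 3) Nat.prime_five (by norm_num) x
  rw [h3, h3] at h
  have h0 : x ^ 2 + x + 1 ≠ 0 := by nlinarith [sq_nonneg (2 * x + 1)]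
  apply mul_right_cancel₀ h0
  rw [show (15 : ℕ) = 3 * 5 by norm_num, ← h]
  ring

theorem eval_30 (x : ℤ) : (cyclotomic 30 ℤ).eval x = x ^ 8 + x ^ 7 - x ^ 5 - x ^ 4 - x ^ 3 + x + 1 := by
  have h6 : ∀ y : ℤ, (cyclotomic 6 ℤ).eval y = y ^ 2 - y + 1 := by
    intro y
    rw [cyclotomic_six]; simp
  have h := eval_cyclotomic_mul (r := 5) (m := 6) Nat.prime_five (by norm_num) x
  rw [h6, h6] at h
  have h0 : x ^ 2 - x + 1 ≠ 0 := by nlinarith [sq_nonneg (2 * x - 1)]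
  apply mul_right_cancel₀ h0
  rw [show (30 : ℕ) = 6 * 5 by norm_num, ← h]
  ring

/-- the three torus orders -/
noncomputable def mm (q : ℕ) : Fin 3 → ℕ := ![c 15 q, c 24 q, c 30 q]

/-- the three indices -/
def ix : Fin 3 → ℕ := ![15, 24, 30]

theorem mm_eq (q : ℕ) (i : Fin 3) : mm q i = c (ix i) q := by fin_cases i <;> rfl

theorem natAbs_zmod {x : ℤ} {n : ℕ} (h : n ∣ x.natAbs) : (x : ZMod n) = 0 := by
  rw [ZMod.intCast_zmod_eq_zero_iff_dvd]
  exact (Int.dvd_natAbs.1 (Int.natCast_dvd_natCast.2 h))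

/-- primes of the three tori are not `2, 3, 5, 7` -/
theorem prime_mm {q ℓ : ℕ} {i : Fin 3} (h : ℓ ∣ mm q i) (hs : ℓ = 2 ∨ ℓ = 3 ∨ ℓ = 5 ∨ ℓ = 7) : False := by
  rw [mm_eq, c] at h
  have h1 := natAbs_zmod h
  fin_cases i
  · rw [show ix ⟨0, by norm_num⟩ = 15 from rfl, eval_15] at h1
    push_cast at h1
    rcases hs with rfl | rfl | rfl | rfl
    · generalize (q : ZMod 2) = x at h1; revert h1; revert x; decide
    · generalize (q : ZMod 3) = x at h1; revert h1; revert x; decide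
    · generalize (q : ZMod 5) = x at h1; revert h1; revert x; decide
    · generalize (q : ZMod 7) = x at h1; revert h1; revert x; decide
  · rw [show ix ⟨1, by norm_num⟩ = 24 from rfl, eval_24] at h1
    push_cast at h1
    rcases hs with rfl | rfl | rfl | rfl
    · generalize (q : ZMod 2) = x at h1; revert h1; revert x; decide
    · generalize (q : ZMod 3) = x at h1; revert h1; revert x; decide
    · generalize (q : ZMod 5) = x at h1; revert h1; revert x; decide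
    · generalize (q : ZMod 7) = x at h1; revert h1; revert x; decide
  · rw [show ix ⟨2, by norm_num⟩ = 30 from rfl, eval_30] at h1
    push_cast at h1
    rcases hs with rfl | rfl | rfl | rfl
    · generalize (q : ZMod 2) = x at h1; revert h1; revert x; decide
    · generalize (q : ZMod 3) = x at h1; revert h1; revert x; decide
    · generalize (q : ZMod 5) = x at h1; revert h1; revert x; decide
    · generalize (q : ZMod 7) = x at h1; revert h1; revert x; decide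

theorem not_dvd_ix {q ℓ : ℕ} {i : Fin 3} (hℓ : ℓ.Prime) (h : ℓ ∣ mm q i) (j : Fin 3) : ¬ ℓ ∣ ix j := by
  intro h1
  have h2 : ℓ ∣ 2 ^ 3 * 3 * 5 := by
    refine h1.trans ?_
    fin_cases j <;> decide
  apply prime_mm h
  rcases (Nat.Prime.dvd_mul hℓ).1 h2 with h | h
  · rcases (Nat.Prime.dvd_mul hℓ).1 h with h | h
    · exact Or.inl ((Nat.prime_dvd_prime_iff_eq hℓ Nat.prime_two).1 (hℓ.dvd_of_dvd_pow h))
    · exact Or.inr (Or.inl ((Nat.prime_dvd_prime_iff_eq hℓ Nat.prime_three).1 h))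
  · exact Or.inr (Or.inr (Or.inl ((Nat.prime_dvd_prime_iff_eq hℓ Nat.prime_five).1 h)))

theorem order_mm {q ℓ : ℕ} (hq : 2 ≤ q) {i : Fin 3} (hℓ : ℓ.Prime) (h : ℓ ∣ mm q i) (n : ℕ) :
    ℓ ∣ q ^ n - 1 ↔ ix i ∣ n := by
  have h1 := not_dvd_ix hℓ h i
  rw [mm_eq] at h
  exact order_of_dvd hq hℓ h h1 n

theorem ix_pos (i : Fin 3) : 0 < ix i := by fin_cases i <;> decide

theorem base_mm {q ℓ : ℕ} (hq : 2 ≤ q) {i : Fin 3} (hℓ : ℓ.Prime) (h : ℓ ∣ mm q i) : ¬ ℓ ∣ q := by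
  rw [mm_eq] at h
  exact not_dvd_base hq hℓ h (ix_pos i)

theorem ix_inj {i j : Fin 3} (h : ix i = ix j) : i = j := by
  revert h; revert i j; decide

theorem cop_mm {q : ℕ} (hq : 2 ≤ q) {i j : Fin 3} (hij : i ≠ j) : (mm q i).Coprime (mm q j) := by
  apply Nat.coprime_of_dvd
  intro ℓ hℓ h1 h2
  apply hij
  apply ix_inj
  have h3 := (order_mm hq hℓ h1 (ix i)).2 (dvd_refl _)
  have h4 := (order_mm hq hℓ h2 (ix j)).2 (dvd_refl _)
  exact Nat.dvd_antisymm ((order_mm hq hℓ h1 (ix j)).1 h4) ((order_mm hq hℓ h2 (ix i)).1 h3)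

/-- the degrees -/
def dd : Finset ℕ := {2, 8, 12, 14, 18, 20, 24, 30}

/-- the `p'`-part of the order of `E₈(q)` -/
def N' (q : ℕ) : ℕ := ∏ d ∈ dd, (q ^ d - 1)

/-- the order of `E₈(q)` -/
def N (q : ℕ) : ℕ := q ^ 120 * N' q

theorem N_eq (q : ℕ) : N q = q ^ 120 * (q ^ 2 - 1) * (q ^ 8 - 1) * (q ^ 12 - 1) * (q ^ 14 - 1) * (q ^ 18 - 1) *
    (q ^ 20 - 1) * (q ^ 24 - 1) * (q ^ 30 - 1) := by
  unfold N N' dd
  repeat rw [Finset.prod_insert (by decide)]
  rw [Finset.prod_singleton]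
  ring

theorem pow_sub_one_pos {q d : ℕ} (hq : 2 ≤ q) (hd : 0 < d) : 0 < q ^ d - 1 := by
  have : 1 < q ^ d := Nat.one_lt_pow hd.ne' (by omega)
  omega

theorem N'_pos {q : ℕ} (hq : 2 ≤ q) : 0 < N' q := by
  apply Finset.prod_pos
  intro d hd
  apply pow_sub_one_pos hq
  revert d; decide

theorem N_pos {q : ℕ} (hq : 2 ≤ q) : 0 < N q := Nat.mul_pos (pow_pos (by omega) _) (N'_pos hq)

/-- the degree divisible by `ix i` -/
def dx : Fin 3 → ℕ := ![30, 24, 30]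

theorem dx_mem (i : Fin 3) : dx i ∈ dd := by fin_cases i <;> decide

theorem ix_dvd_dx (i : Fin 3) : ix i ∣ dx i := by fin_cases i <;> decide

theorem eq_dx {i : Fin 3} {d : ℕ} (hd : d ∈ dd) (h : ix i ∣ d) : d = dx i := by
  revert h; revert d; revert i; decide

/-- `mm q i` divides `q ^ dx i - 1`, the cofactor is prime to it -/
theorem split_dx {q : ℕ} (hq : 2 ≤ q) (i : Fin 3) :
    ∃ a, q ^ dx i - 1 = mm q i * a ∧ (mm q i).Coprime a := by
  have hpos : 0 < dx i := by fin_cases i <;> decide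
  refine ⟨∏ j ∈ (dx i).divisors.erase (ix i), c j q, ?_, ?_⟩
  · rw [← prod_c hpos hq, mm_eq]
    exact (Finset.mul_prod_erase _ _ (Nat.mem_divisors.2 ⟨ix_dvd_dx i, hpos.ne'⟩)).symm
  · apply Nat.coprime_of_dvd
    intro ℓ hℓ h1 h2
    obtain ⟨j, hj, hℓj⟩ := (Prime.dvd_finset_prod_iff hℓ.prime _).1 h2
    rw [Finset.mem_erase, Nat.mem_divisors] at hj
    have hj0 : 0 < j := Nat.pos_of_dvd_of_pos hj.2.1 hpos
    have h3 : ¬ ℓ ∣ j := by
      intro h
      have h4 := h.trans hj.2.1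
      have h5 : ℓ ∣ 2 ^ 3 * 3 * 5 := by
        refine h4.trans ?_
        fin_cases i <;> decide
      apply prime_mm h1
      rcases (Nat.Prime.dvd_mul hℓ).1 h5 with h | h
      · rcases (Nat.Prime.dvd_mul hℓ).1 h with h | h
        · exact Or.inl ((Nat.prime_dvd_prime_iff_eq hℓ Nat.prime_two).1 (hℓ.dvd_of_dvd_pow h))
        · exact Or.inr (Or.inl ((Nat.prime_dvd_prime_iff_eq hℓ Nat.prime_three).1 h))
      · exact Or.inr (Or.inr (Or.inl ((Nat.prime_dvd_prime_iff_eq hℓ Nat.prime_five).1 h)))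
    have h4 := order_of_dvd hq hℓ hℓj h3
    have h5 := order_mm hq hℓ h1
    apply hj.1
    exact Nat.dvd_antisymm ((h4 (ix i)).1 ((h5 _).2 (dvd_refl _))) ((h5 j).1 ((h4 _).2 (dvd_refl _)))

theorem mm_dvd_N' {q : ℕ} (hq : 2 ≤ q) (i : Fin 3) : mm q i ∣ N' q := by
  obtain ⟨a, ha, -⟩ := split_dx hq i
  exact (Dvd.intro a ha.symm).trans (Finset.dvd_prod_of_mem _ (dx_mem i))

theorem mm_dvd_N {q : ℕ} (hq : 2 ≤ q) (i : Fin 3) : mm q i ∣ N q := (mm_dvd_N' hq i).trans (Dvd.intro_left _ rfl)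

theorem mm_pos {q : ℕ} (hq : 2 ≤ q) (i : Fin 3) : 0 < mm q i := by rw [mm_eq]; exact c_pos _ hq

theorem hall_mm {q : ℕ} (hq : 2 ≤ q) (i : Fin 3) : (mm q i).Coprime (N q / mm q i) := by
  obtain ⟨a, ha, hcop⟩ := split_dx hq i
  have h1 : N q = mm q i * (a * (q ^ 120 * ∏ d ∈ dd.erase (dx i), (q ^ d - 1))) := by
    unfold N N'
    rw [← Finset.mul_prod_erase _ _ (dx_mem i), ha]
    ring
  rw [h1, Nat.mul_div_cancel_left _ (mm_pos hq i)]
  refine Nat.Coprime.mul_right hcop (Nat.Coprime.mul_right ?_ ?_)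
  · apply Nat.Coprime.pow_right
    apply Nat.coprime_of_dvd
    intro ℓ hℓ h1 h2
    exact base_mm hq hℓ h1 h2
  · apply Nat.Coprime.prod_right
    intro d hd
    rw [Finset.mem_erase] at hd
    apply Nat.coprime_of_dvd
    intro ℓ hℓ h1 h2
    exact hd.1 (eq_dx hd.2 ((order_mm hq hℓ h1 d).1 h2))

end Cfsg.Agent.H416.Arith

private theorem dce_98d26717a307 : _root_.True := by
  try have : _root_.True := by simp only [_root_.Cfsg.Agent.H416.Arith.c.eq_1]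
  exact _root_.True.intro
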