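import Mathlib
import Cfsg.Agent.H363.Frat
import Cfsg.Agent.H416.Arith
import Cfsg.Agent.H378.SmallTor_m3
import Cfsg.Agent.H129.TorusChar
import Cfsg.Agent.S1093
import Cfsg.Agent.S1065
import Cfsg.Agent.FastGrp
import Cfsg.Agent.Prune
set_option linter.all false

section
prune_inst 0x7f00000000000000000000000000000000000000000000000000000000000000000000000000000000000000000000000000000000000000000000000000000000000000000000000000000000000000003fffffffffffffffffffffffffffbeffbdffffffff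

-- part: H416/Iso_mg
section
set_option linter.all false
open scoped Cfsg.Agent.FastGrp

-- part: H416/Iso
section
/-!
# Three isolated coprime Hall divisors (helper416)

`Isol G m`: no element of `G` has order `r * s` with `r ∣ m`, `s ∤ m` primes.

For three pairwise coprime odd isolated Hall divisors `m 0, m 1, m 2` of `|G|`:

* `Hyp.normal_dvd`: a normal subgroup `N` of order prime to `m i` satisfies `m i ∣ |N|_s - 1` for all primes `s`;
* `exists_core`: there is a largest normal subgroup `L` of order prime to all `m i`;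
* `exists_simple`: then `G / L` has a nonabelian simple normal subgroup `M` with trivial centraliser, all primes of the
  `m i` divide `|M|` and `|G/L : M| < (m i) ^ 2`.
-/

set_option autoImplicit false

namespace Cfsg.Agent.H416.Iso

open Subgroup Cfsg.Agent.H363.Frat

/-- every prime of `m` is non-adjacent to every prime not dividing `m` -/
def Isol (G : Type*) [Group G] (m : ℕ) : Prop :=
  ∀ r s : ℕ, r.Prime → s.Prime → r ∣ m → ¬ s ∣ m → NonAdj G r s

/-- three pairwise coprime odd isolated Hall divisors -/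
structure Hyp (G : Type*) [Group G] (m : Fin 3 → ℕ) : Prop where
  one_lt : ∀ i, 1 < m i
  odd : ∀ i, Odd (m i)
  dvd : ∀ i, m i ∣ Nat.card G
  hall : ∀ i, (m i).Coprime (Nat.card G / m i)
  cop : ∀ i j, i ≠ j → (m i).Coprime (m j)
  isol : ∀ i, Isol G (m i)
  le : ∀ i, ∃ j k, j ≠ i ∧ k ≠ i ∧ j ≠ k ∧ m i ≤ m j * m k

variable {G : Type*} [Group G] [Finite G] {m : Fin 3 → ℕ}

theorem Isol.quotient {n : ℕ} (h : Isol G n) (N : Subgroup G) [N.Normal] : Isol (G ⧸ N) n :=
  fun r s hr hs h1 h2 => (h r s hr hs h1 h2).quotient N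

/-- a divisor of `|G|` all of whose primes divide the Hall divisor `n` divides `n` -/
theorem dvd_of_hall {N n c : ℕ} (hn : n ∣ N) (hh : n.Coprime (N / n)) (hc : c ∣ N)
    (hp : ∀ s : ℕ, s.Prime → s ∣ c → s ∣ n) : c ∣ n := by
  have h1 : c.Coprime (N / n) := by
    apply Nat.Coprime.symm
    apply Nat.coprime_of_dvd
    intro s hs h2 h3
    have h4 := hp s hs h3
    have h5 : s ∣ Nat.gcd n (N / n) := Nat.dvd_gcd h4 h2
    rw [hh] at h5
    exact hs.one_lt.ne' (Nat.dvd_one.1 h5)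
  have h2 : c ∣ n * (N / n) := by rw [Nat.mul_div_cancel' hn]; exact hc
  exact h1.dvd_of_dvd_mul_right h2

theorem Hyp.quotient (h : Hyp G m) (N : Subgroup G) [N.Normal] (hN : ∀ i, (m i).Coprime (Nat.card N)) :
    Hyp (G ⧸ N) m := by
  have hc : Nat.card G = Nat.card (G ⧸ N) * Nat.card N := card_eq_card_quotient_mul_card_subgroup N
  refine ⟨h.one_lt, h.odd, fun i => ?_, fun i => ?_, h.cop, fun i => (h.isol i).quotient N, h.le⟩
  · have h1 := h.dvd i
    rw [hc] at h1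
    exact (hN i).dvd_of_dvd_mul_right h1
  · have h1 := h.dvd i
    rw [hc] at h1
    have h2 : m i ∣ Nat.card (G ⧸ N) := (hN i).dvd_of_dvd_mul_right h1
    have h3 := h.hall i
    rw [hc, Nat.mul_comm, Nat.mul_div_assoc _ h2] at h3
    exact h3.coprime_dvd_right (Dvd.intro_left _ rfl)

theorem Hyp.dvd_index (h : Hyp G m) {N : Subgroup G} {i : Fin 3} (hN : (m i).Coprime (Nat.card N)) :
    m i ∣ N.index := by
  have h1 := h.dvd i
  rw [← N.card_mul_index] at h1
  exact hN.dvd_of_dvd_mul_left h1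

/-- `m i` divides `|N|_s - 1` -/
theorem Hyp.normal_dvd (h : Hyp G m) (N : Subgroup G) [N.Normal] {i : Fin 3} (hN : (m i).Coprime (Nat.card N))
    {s : ℕ} (hs : s.Prime) (hsm : ¬ s ∣ m i) : m i ∣ s ^ (Nat.card N).factorization s - 1 := by
  rw [Nat.dvd_iff_prime_pow_dvd_dvd]
  intro r k hr hrk
  rcases Nat.eq_zero_or_pos k with rfl | hk
  · rw [pow_zero]; exact one_dvd _
  have hrm : r ∣ m i := (dvd_pow_self r hk.ne').trans hrk
  have hrs : r ≠ s := by rintro rfl; exact hsm hrm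
  exact pow_dvd_of_normal hr hs hrs (h.isol i r s hr hs hrm hsm) N (hrk.trans (h.dvd_index hN))

/-- no nontrivial normal subgroup of order prime to all `m i` -/
def Red (Q : Type*) [Group Q] (m : Fin 3 → ℕ) : Prop :=
  ∀ N : Subgroup Q, N.Normal → (∀ i, (m i).Coprime (Nat.card N)) → N = ⊥

omit [Finite G] in
theorem Red.exists_prime (h : Red G m) {N : Subgroup G} (hN : N.Normal) (h1 : N ≠ ⊥) :
    ∃ i r, r.Prime ∧ r ∣ m i ∧ r ∣ Nat.card N := by
  by_contra hcon
  push Not at hcon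
  apply h1
  apply h N hN
  intro i
  apply Nat.coprime_of_dvd
  intro r hr h2 h3
  exact hcon i r hr h2 h3

/-- **The core**: a largest normal subgroup of order prime to all `m i`. -/
theorem exists_core (G : Type*) [Group G] [Finite G] (m : Fin 3 → ℕ) :
    ∃ (L : Subgroup G) (_ : L.Normal), (∀ i, (m i).Coprime (Nat.card L)) ∧ Red (G ⧸ L) m := by
  classical
  let S : Set (Subgroup G) := {L | L.Normal ∧ ∀ i, (m i).Coprime (Nat.card L)}
  have hfin : S.Finite := Set.toFinite _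
  have hne : S.Nonempty := ⟨⊥, inferInstance, fun i => by rw [Subgroup.card_bot]; exact Nat.coprime_one_right _⟩
  obtain ⟨L, hL, hmax⟩ := hfin.exists_maximalFor (fun L : Subgroup G => Nat.card L) S hne
  have hLn : L.Normal := hL.1
  refine ⟨L, hLn, hL.2, ?_⟩
  intro N hN hcop
  let K := N.comap (QuotientGroup.mk' L)
  have hK : Nat.card K = Nat.card L * Nat.card N := by
    have h1 : Nat.card K = Nat.card (L.subgroupOf K) * (L.subgroupOf K).index :=
      (Subgroup.card_mul_index _).symm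
    have hLK : L ≤ K := by
      intro x hx
      rw [mem_comap, QuotientGroup.mk'_apply, (QuotientGroup.eq_one_iff x).2 hx]
      exact one_mem _
    have h2 : Nat.card (L.subgroupOf K) = Nat.card L := Nat.card_congr (subgroupOfEquivOfLe hLK).toEquiv
    have h3 : (L.subgroupOf K).index = Nat.card N := by
      rw [Subgroup.index_eq_card]
      exact Nat.card_congr (quotEquiv L N).toEquiv
    rw [h1, h2, h3]
  have hKS : K ∈ S := by
    refine ⟨inferInstance, fun i => ?_⟩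
    show (m i).Coprime (Nat.card K)
    rw [hK]
    exact Nat.Coprime.mul_right (hL.2 i) (hcop i)
  have h1 : Nat.card L ≤ Nat.card K := by
    rw [hK]
    exact Nat.le_mul_of_pos_right _ Nat.card_pos
  have h2 : Nat.card K ≤ Nat.card L := hmax hKS h1
  have h3 : Nat.card N = 1 := by
    rw [hK] at h2
    have h4 : 0 < Nat.card L := Nat.card_pos
    have h5 : 0 < Nat.card N := Nat.card_pos
    nlinarith only [h2, h4, h5]
  exact Subgroup.card_eq_one.1 h3

theorem exists_minimal (hG : Nontrivial G) :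
    ∃ M : Subgroup G, M.Normal ∧ M ≠ ⊥ ∧ ∀ L : Subgroup G, L.Normal → L ≤ M → L = ⊥ ∨ L = M := by
  classical
  let S : Set (Subgroup G) := {M | M.Normal ∧ M ≠ ⊥}
  have hfin : S.Finite := Set.toFinite _
  have hne : S.Nonempty := ⟨⊤, inferInstance, top_ne_bot⟩
  obtain ⟨M, hM, hmin⟩ := hfin.exists_minimal hne
  refine ⟨M, hM.1, hM.2, fun L hL hLM => ?_⟩
  by_cases h : L = ⊥
  · exact Or.inl h
  · exact Or.inr (le_antisymm hLM (hmin ⟨hL, h⟩ hLM))

theorem orderOf_pow_form {r : ℕ} {x : G} (hx : orderOf x = r) : ∃ k, orderOf x = r ^ k := ⟨1, by rw [hx, pow_one]⟩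

/-- an `m i`-element of prime order does not commute with an involution -/
theorem Hyp.not_commute_two (h : Hyp G m) {i : Fin 3} {r : ℕ} (hr : r.Prime) (hrm : r ∣ m i) {x y : G}
    (hx : orderOf x = r) (hy : orderOf y = 2) : ¬ Commute x y := by
  intro hc
  have h2 : ¬ 2 ∣ m i := by
    intro h2
    have := h.odd i
    rw [← Nat.not_even_iff_odd, even_iff_two_dvd] at this
    exact this h2
  have hr2 : r ≠ 2 := by rintro rfl; exact h2 hrm
  have h3 := eq_one_of_commute hr Nat.prime_two hr2 (h.isol i r 2 hr Nat.prime_two hrm h2)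
    (orderOf_pow_form hx) (orderOf_pow_form hy) hc
    (by rintro rfl; rw [orderOf_one] at hy; exact absurd hy (by norm_num))
  rw [h3, orderOf_one] at hx
  exact hr.one_lt.ne hx

/-- **The minimal normal subgroup is nonabelian simple.** `hev`: nonabelian simple groups have even order. -/
theorem Hyp.simple_of_minimal (h : Hyp G m) (hred : Red G m)
    (hev : ∀ T : Subgroup G, IsSimpleGroup T → ¬ IsMulCommutative T → 2 ∣ Nat.card T)
    (M : Subgroup G) [hMn : M.Normal] (hM : M ≠ ⊥)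
    (hmin : ∀ L : Subgroup G, L.Normal → L ≤ M → L = ⊥ ∨ L = M) :
    IsSimpleGroup M ∧ ¬ IsMulCommutative M ∧ 2 ∣ Nat.card M := by
  obtain ⟨i, r, hr, hrm, hrM⟩ := hred.exists_prime hMn hM
  have : Fact r.Prime := ⟨hr⟩
  obtain ⟨T, n, _, hT, hn, ⟨e⟩⟩ := Cfsg.Agent.Lib.MinNormal.exists_mulEquiv_pi M hM hmin
  have hcard : Nat.card M = Nat.card T ^ n := by
    rw [Nat.card_congr e.toEquiv, Nat.card_fun]
    simp only [_root_.Nat.card_eq_fintype_card, _root_.Fintype.card_fin]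
  have hrT : r ∣ Nat.card T := by
    rw [hcard] at hrM
    exact hr.dvd_of_dvd_pow hrM
  by_cases hcomm : IsMulCommutative T
  · exfalso
    have hTp : (Nat.card T).Prime := by
      let _ : CommGroup T := { (inferInstance : Group T) with mul_comm := fun a b => hcomm.is_comm.comm a b }
      exact IsSimpleGroup.prime_card
    have hTr : Nat.card T = r := ((Nat.prime_dvd_prime_iff_eq hr hTp).1 hrT).symm
    rw [hTr] at hcard
    have hfac : (Nat.card M).factorization r = n := by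
      rw [hcard, Nat.Prime.factorization_pow hr]; simp
    obtain ⟨j, k, hj, hk, hjk, hle⟩ := h.le i
    have key : ∀ j, j ≠ i → m j ∣ Nat.card M - 1 := by
      intro j hj
      have hrj : ¬ r ∣ m j := by
        intro h1
        have h2 : r ∣ Nat.gcd (m i) (m j) := Nat.dvd_gcd hrm h1
        rw [h.cop i j hj.symm] at h2
        exact hr.one_lt.ne' (Nat.dvd_one.1 h2)
      have h1 : (m j).Coprime (Nat.card M) := by
        rw [hcard]
        exact Nat.Coprime.pow_right _ ((hr.coprime_iff_not_dvd.2 hrj).symm)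
      have h2 := h.normal_dvd M h1 hr hrj
      rw [hfac, ← hcard] at h2
      exact h2
    have h1 : m j * m k ∣ Nat.card M - 1 := (h.cop j k hjk).mul_dvd_of_dvd_of_dvd (key j hj) (key k hk)
    have h2 : Nat.card M ∣ m i := by
      apply dvd_of_hall (h.dvd i) (h.hall i) (Subgroup.card_subgroup_dvd_card M)
      intro s hs hsM
      rw [hcard] at hsM
      have := (Nat.prime_dvd_prime_iff_eq hs hr).1 (hs.dvd_of_dvd_pow hsM)
      rw [this]; exact hrm
    have h3 : 1 < Nat.card M := by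
      rw [hcard]; exact Nat.one_lt_pow hn.ne' hr.one_lt
    have h4 := Nat.le_of_dvd (by omega) h1
    have h5 := Nat.le_of_dvd (by have := h.one_lt i; omega) h2
    omega
  · have h2T := hev T hT hcomm
    have hn1 : n = 1 := by
      by_contra hne
      have hn2 : 2 ≤ n := by omega
      obtain ⟨x, hx⟩ := exists_prime_orderOf_dvd_card' r hrT
      have : Fact (Nat.Prime 2) := ⟨Nat.prime_two⟩
      obtain ⟨y, hy⟩ := exists_prime_orderOf_dvd_card' 2 h2T
      let i0 : Fin n := ⟨0, by omega⟩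
      let i1 : Fin n := ⟨1, by omega⟩
      have hi : i0 ≠ i1 := by
        intro h
        have := congrArg Fin.val h
        simp [i0, i1] at this
      let X : Fin n → T := Pi.mulSingle i0 x
      let Y : Fin n → T := Pi.mulSingle i1 y
      have hXY : Commute X Y := Pi.mulSingle_commute (f := fun _ : Fin n => T) hi x y
      have hX : orderOf ((e.symm X : M) : G) = r := by
        rw [Subgroup.orderOf_coe, MulEquiv.orderOf_eq, orderOf_piMulSingle, hx]
      have hY : orderOf ((e.symm Y : M) : G) = 2 := by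
        rw [Subgroup.orderOf_coe, MulEquiv.orderOf_eq, orderOf_piMulSingle, hy]
      apply h.not_commute_two hr hrm hX hY
      have := (hXY.map e.symm.toMonoidHom).map M.subtype
      exact this
    subst hn1
    have e' := e.trans (MulEquiv.funUnique (Fin 1) T)
    refine ⟨?_, ?_, ?_⟩
    · have := hT
      exact e'.isSimpleGroup
    · intro hc
      apply hcomm
      rw [isMulCommutative_iff] at hc ⊢
      intro a b
      have := hc (e'.symm a) (e'.symm b)
      rw [← map_mul, ← map_mul] at this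
      exact e'.symm.injective this
    · rw [hcard, pow_one]; exact h2T

/-- the centraliser of a normal subgroup of even order is trivial -/
theorem Hyp.centralizer_eq_bot (h : Hyp G m) (hred : Red G m) (M : Subgroup G) [M.Normal]
    (h2 : 2 ∣ Nat.card M) : Subgroup.centralizer (M : Set G) = ⊥ := by
  by_contra hne
  obtain ⟨i, r, hr, hrm, hrC⟩ := hred.exists_prime (N := Subgroup.centralizer (M : Set G)) inferInstance hne
  have : Fact r.Prime := ⟨hr⟩
  have : Fact (Nat.Prime 2) := ⟨Nat.prime_two⟩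
  obtain ⟨x, hx⟩ := exists_prime_orderOf_dvd_card' r hrC
  obtain ⟨y, hy⟩ := exists_prime_orderOf_dvd_card' 2 h2
  apply h.not_commute_two hr hrm (x := (x : G)) (y := (y : G)) (by rw [Subgroup.orderOf_coe, hx])
    (by rw [Subgroup.orderOf_coe, hy])
  exact ((Subgroup.mem_centralizer_iff.1 x.2) y.1 y.2).symm

/-- every prime of `m i` divides `|M|`. `hE`: an automorphism of prime order `r`, `2 ≠ r ∤ |M|`, fixes an
involution. -/
theorem Hyp.dvd_card (h : Hyp G m) (M : Subgroup G) [M.Normal]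
    (hE : ∀ r : ℕ, r.Prime → r ≠ 2 → ¬ r ∣ Nat.card M → ∀ x : MulAut M, x ^ r = 1 → ∃ g : M, orderOf g = 2 ∧ x g = g)
    {i : Fin 3} {r : ℕ} (hr : r.Prime) (hrm : r ∣ m i) : r ∣ Nat.card M := by
  by_contra hrM
  have : Fact r.Prime := ⟨hr⟩
  obtain ⟨x, hx⟩ := exists_prime_orderOf_dvd_card' r (hrm.trans (h.dvd i))
  have hr2 : r ≠ 2 := by
    rintro rfl
    have := h.odd i
    rw [← Nat.not_even_iff_odd, even_iff_two_dvd] at this
    exact this hrm
  obtain ⟨g, hg, hxg⟩ := hE r hr hr2 hrM (MulAut.conjNormal x) (by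
    rw [← map_pow, ← hx, pow_orderOf_eq_one, map_one])
  apply h.not_commute_two hr hrm hx (y := (g : G)) (by rw [Subgroup.orderOf_coe, hg])
  have h1 := congrArg Subtype.val hxg
  rw [MulAut.conjNormal_apply] at h1
  show x * g = g * x
  calc x * g = (x * g * x⁻¹) * x := by group
    _ = g * x := by rw [h1]

/-- the centraliser of a nontrivial `m i`-element of prime power order has order dividing `m i` -/
theorem Hyp.card_centralizer_dvd (h : Hyp G m) {i : Fin 3} {r : ℕ} (hr : r.Prime) (hrm : r ∣ m i) {z : G}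
    (hz : ∃ k, orderOf z = r ^ k) (hz1 : z ≠ 1) {C : Subgroup G} (hC : ∀ c ∈ C, Commute z c) :
    Nat.card C ∣ m i := by
  apply dvd_of_hall (h.dvd i) (h.hall i) (Subgroup.card_subgroup_dvd_card C)
  intro s hs hsC
  by_contra hsm
  have : Fact s.Prime := ⟨hs⟩
  obtain ⟨c, hc⟩ := exists_prime_orderOf_dvd_card' s hsC
  have hrs : r ≠ s := by rintro rfl; exact hsm hrm
  have h1 := eq_one_of_commute hs hr hrs.symm (h.isol i r s hr hs hrm hsm).symm
    (x := (c : G)) (orderOf_pow_form (by rw [Subgroup.orderOf_coe, hc])) hz (hC c.1 c.2).symm hz1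
  have h2 : c = 1 := Subtype.ext h1
  rw [h2, orderOf_one] at hc
  exact hs.one_lt.ne hc

/-- `|G : M| < (m i)^2` if a prime of `m i` divides `|M|`, `M` normal -/
theorem Hyp.index_lt (h : Hyp G m) (M : Subgroup G) [M.Normal] {i : Fin 3} {r : ℕ} (hr : r.Prime)
    (hrm : r ∣ m i) (hrM : r ∣ Nat.card M) : M.index < m i ^ 2 := by
  classical
  have : Fact r.Prime := ⟨hr⟩
  let P : Sylow r M := default
  set S : Subgroup G := (P : Subgroup M).map M.subtype with hS
  have hSp : IsPGroup r S := P.2.map _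
  have hcard : Nat.card S = r ^ (Nat.card M).factorization r := by
    rw [hS, Nat.card_congr ((P : Subgroup M).equivMapOfInjective M.subtype
      M.subtype_injective).symm.toEquiv]
    exact P.card_eq_multiplicity
  have hS1 : 1 < Nat.card S := by
    rw [hcard]
    apply Nat.one_lt_pow _ hr.one_lt
    exact (hr.factorization_pos_of_dvd Nat.card_pos.ne' hrM).ne'
  have hSm : Nat.card S ∣ m i := by
    apply dvd_of_hall (h.dvd i) (h.hall i) (Subgroup.card_subgroup_dvd_card S)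
    intro s hs hsM
    rw [hcard] at hsM
    have := (Nat.prime_dvd_prime_iff_eq hs hr).1 (hs.dvd_of_dvd_pow hsM)
    rw [this]; exact hrm
  have hfrat : normalizer (S : Set G) ⊔ M = ⊤ := Sylow.normalizer_sup_eq_top P
  have h1 : M.index ∣ Nat.card (normalizer (S : Set G)) := by
    have h1 : M.relIndex (normalizer (S : Set G)) = M.index := by
      rw [← relIndex_sup_right, hfrat, relIndex_top_right]
    rw [← h1]
    exact relIndex_dvd_card _ _
  have h2 : Nat.card (normalizer (S : Set G)) < m i ^ 2 := by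
    set N := normalizer (S : Set G) with hN
    -- a nontrivial element of `S`
    have hSb : S ≠ ⊥ := by
      intro hb
      rw [hb, Subgroup.card_bot] at hS1
      exact absurd hS1 (lt_irrefl 1)
    obtain ⟨z, hzS, hz1⟩ := (Subgroup.ne_bot_iff_exists_ne_one.1 hSb |>.imp fun a ha => ha) |> fun ⟨a, ha⟩ =>
      (⟨a.1, a.2, fun h => ha (Subtype.ext h)⟩ : ∃ z, z ∈ S ∧ z ≠ 1)
    let Y := {v : G // v ∈ S ∧ v ≠ 1}
    have hn : ∀ a : N, ∀ v ∈ S, (a : G) * v * (a : G)⁻¹ ∈ S := fun a v hv =>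
      (mem_normalizer_iff.mp a.2 v).mp hv
    let _act : MulAction N Y :=
      { smul := fun a y => ⟨(a : G) * y.1 * (a : G)⁻¹, hn a _ y.2.1, fun h => y.2.2 (by
          have : y.1 = (a : G)⁻¹ * ((a : G) * y.1 * (a : G)⁻¹) * (a : G) := by group
          rw [this, h]; group)⟩
        one_smul := fun y => by
          apply Subtype.ext
          change ((1 : N) : G) * y.1 * ((1 : N) : G)⁻¹ = y.1
          simp only [_root_.OneMemClass.coe_one, _root_.ne_eq, _root_.one_mul, _root_.inv_one, _root_.mul_one]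
        mul_smul := fun a b y => by
          apply Subtype.ext
          change ((a * b : N) : G) * y.1 * ((a * b : N) : G)⁻¹
            = (a : G) * ((b : G) * y.1 * (b : G)⁻¹) * (a : G)⁻¹
          rw [Subgroup.coe_mul]; group }
    have hY : Nat.card Y + 1 = Nat.card S := by
      have h4 : Nat.card Y = ((S : Set G) \ {1}).ncard := by
        rw [← Nat.card_coe_set_eq]
        rfl
      rw [h4, Set.ncard_sdiff_singleton_add_one (one_mem S) (Set.toFinite _)]
      exact (Nat.card_coe_set_eq _).symm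
    let y : Y := ⟨z, hzS, hz1⟩
    have h3 : Nat.card N = Nat.card (MulAction.orbit N y) * Nat.card (MulAction.stabilizer N y) := by
      have := MulAction.index_stabilizer N y
      rw [← (MulAction.stabilizer N y).card_mul_index, this, Nat.mul_comm]
      rw [Nat.card_coe_set_eq]
    have h4 : Nat.card (MulAction.orbit N y) ≤ Nat.card Y :=
      Nat.card_le_card_of_injective _ Subtype.val_injective
    have h5 : Nat.card (MulAction.stabilizer N y) ∣ m i := by
      have h6 : Nat.card ((MulAction.stabilizer N y).map N.subtype) ∣ m i := by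
        apply h.card_centralizer_dvd hr hrm (z := z) ?_ hz1
        · rintro _ ⟨c, hc, rfl⟩
          have h7 : (c : G) * z * (c : G)⁻¹ = z := congrArg Subtype.val hc
          show z * (c : G) = (c : G) * z
          calc z * (c : G) = ((c : G) * z * (c : G)⁻¹) * (c : G) := by rw [h7]
            _ = _ := by group
        · obtain ⟨k, hk⟩ := (IsPGroup.iff_orderOf.mp hSp) ⟨z, hzS⟩
          exact ⟨k, by rw [← hk, ← Subgroup.orderOf_coe]⟩
      rw [Nat.card_congr ((MulAction.stabilizer N y).equivMapOfInjective N.subtype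
        N.subtype_injective).toEquiv]
      exact h6
    have hmi := h.one_lt i
    have h6 := Nat.le_of_dvd (by omega) h5
    have h7 := Nat.le_of_dvd (by omega) hSm
    calc Nat.card N = Nat.card (MulAction.orbit N y) * Nat.card (MulAction.stabilizer N y) := h3
      _ ≤ (m i - 1) * m i := Nat.mul_le_mul (by omega) h6
      _ < m i ^ 2 := by
        rw [pow_two]
        exact Nat.mul_lt_mul_of_pos_right (by omega) (by omega)
  exact (Nat.le_of_dvd Nat.card_pos h1).trans_lt h2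

end Cfsg.Agent.H416.Iso
end

-- part: H416/Arith2
section
/-!
# The `t`-part of the order of `E₈(q)` is smaller than `Φ₁₅(q) Φ₂₄(q) Φ₃₀(q)` (helper416)
-/

set_option autoImplicit false

namespace Cfsg.Agent.H416.Arith

open Polynomial Cfsg.Agent.Lib.Zsigmondy

theorem mm0 {q : ℕ} (hq : 2 ≤ q) : ((mm q 0 : ℕ) : ℤ) = (q : ℤ) ^ 8 - q ^ 7 + q ^ 5 - q ^ 4 + q ^ 3 - q + 1 := by
  rw [mm_eq, cast_c _ hq]
  exact eval_15 _

theorem mm1 {q : ℕ} (hq : 2 ≤ q) : ((mm q 1 : ℕ) : ℤ) = (q : ℤ) ^ 8 - q ^ 4 + 1 := by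
  rw [mm_eq, cast_c _ hq]
  exact eval_24 _

theorem mm2 {q : ℕ} (hq : 2 ≤ q) : ((mm q 2 : ℕ) : ℤ) = (q : ℤ) ^ 8 + q ^ 7 - q ^ 5 - q ^ 4 - q ^ 3 + q + 1 := by
  rw [mm_eq, cast_c _ hq]
  exact eval_30 _

theorem mm0_lt {q : ℕ} (hq : 2 ≤ q) : mm q 0 < q ^ 8 := by
  zify
  rw [mm0 hq]
  obtain ⟨x, rfl⟩ := Nat.exists_eq_add_of_le' hq
  push_cast
  have h : (0 : ℤ) ≤ x := by positivity
  have : (0 : ℤ) < ((x : ℤ) + 2) ^ 8 - (((x : ℤ) + 2) ^ 8 - (x + 2) ^ 7 + (x + 2) ^ 5 - (x + 2) ^ 4 + (x + 2) ^ 3 - (x + 2) + 1) := by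
    ring_nf
    (clear * -; positivity)
  linarith

theorem mm1_lt {q : ℕ} (hq : 2 ≤ q) : mm q 1 < q ^ 8 := by
  zify
  rw [mm1 hq]
  have h : (1 : ℤ) < (q : ℤ) ^ 4 := by
    have : 1 < q ^ 4 := Nat.one_lt_pow (by norm_num) (by omega)
    exact_mod_cast this
  linarith

theorem mm2_lt {q : ℕ} (hq : 2 ≤ q) : mm q 2 < q ^ 9 := by
  zify
  rw [mm2 hq]
  obtain ⟨x, rfl⟩ := Nat.exists_eq_add_of_le' hq
  push_cast
  have : (0 : ℤ) < ((x : ℤ) + 2) ^ 9 - (((x : ℤ) + 2) ^ 8 + (x + 2) ^ 7 - (x + 2) ^ 5 - (x + 2) ^ 4 - (x + 2) ^ 3 + (x + 2) + 1) := by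
    ring_nf
    (clear * -; positivity)
  linarith

theorem mm0_ge {q : ℕ} (hq : 2 ≤ q) : q ^ 7 * (q - 1) ≤ mm q 0 := by
  zify [show 1 ≤ q by omega]
  rw [mm0 hq]
  obtain ⟨x, rfl⟩ := Nat.exists_eq_add_of_le' hq
  push_cast
  have : (0 : ℤ) ≤ (((x : ℤ) + 2) ^ 8 - (x + 2) ^ 7 + (x + 2) ^ 5 - (x + 2) ^ 4 + (x + 2) ^ 3 - (x + 2) + 1) - (x + 2) ^ 7 * (x + 2 - 1) := by
    ring_nf
    positivity
  linarith

theorem mm1_ge {q : ℕ} (hq : 2 ≤ q) : q ^ 7 * (q - 1) ≤ mm q 1 := by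
  zify [show 1 ≤ q by omega]
  rw [mm1 hq]
  obtain ⟨x, rfl⟩ := Nat.exists_eq_add_of_le' hq
  push_cast
  have : (0 : ℤ) ≤ (((x : ℤ) + 2) ^ 8 - (x + 2) ^ 4 + 1) - (x + 2) ^ 7 * (x + 2 - 1) := by
    ring_nf
    positivity
  linarith

theorem mm1_ge' {q : ℕ} (hq : 2 ≤ q) : 15 * q ^ 8 ≤ 16 * mm q 1 := by
  zify
  rw [mm1 hq]
  obtain ⟨x, rfl⟩ := Nat.exists_eq_add_of_le' hq
  push_cast
  have : (0 : ℤ) ≤ 16 * (((x : ℤ) + 2) ^ 8 - (x + 2) ^ 4 + 1) - 15 * (x + 2) ^ 8 := by
    ring_nf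
    positivity
  linarith

theorem mm2_ge {q : ℕ} (hq : 2 ≤ q) : q ^ 8 ≤ mm q 2 := by
  zify
  rw [mm2 hq]
  obtain ⟨x, rfl⟩ := Nat.exists_eq_add_of_le' hq
  push_cast
  have : (0 : ℤ) ≤ (((x : ℤ) + 2) ^ 8 + (x + 2) ^ 7 - (x + 2) ^ 5 - (x + 2) ^ 4 - (x + 2) ^ 3 + (x + 2) + 1) - (x + 2) ^ 8 := by
    ring_nf
    positivity
  linarith

theorem mm_ge {q : ℕ} (hq : 2 ≤ q) (i : Fin 3) : q ^ 7 ≤ mm q i := by
  have h7 : 0 < q ^ 7 := pow_pos (by omega) _
  have h1 : q ^ 7 ≤ q ^ 7 * (q - 1) := Nat.le_mul_of_pos_right _ (by omega)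
  fin_cases i
  · exact h1.trans (mm0_ge hq)
  · exact h1.trans (mm1_ge hq)
  · exact (Nat.pow_le_pow_right (by omega) (by norm_num)).trans (mm2_ge hq)

theorem mm_lt {q : ℕ} (hq : 2 ≤ q) (i : Fin 3) : mm q i < q ^ 9 := by
  have h1 : q ^ 8 ≤ q ^ 9 := Nat.pow_le_pow_right (by omega) (by norm_num)
  fin_cases i
  · exact (mm0_lt hq).trans_le h1
  · exact (mm1_lt hq).trans_le h1
  · exact mm2_lt hq

theorem le_mm {q : ℕ} (hq : 2 ≤ q) (i : Fin 3) : ∃ j k, j ≠ i ∧ k ≠ i ∧ j ≠ k ∧ mm q i ≤ mm q j * mm q k := by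
  have key : ∀ j k, mm q i ≤ mm q j * mm q k := by
    intro j k
    calc mm q i ≤ q ^ 9 := (mm_lt hq i).le
      _ ≤ q ^ 14 := Nat.pow_le_pow_right (by omega) (by norm_num)
      _ = q ^ 7 * q ^ 7 := by ring
      _ ≤ _ := Nat.mul_le_mul (mm_ge hq j) (mm_ge hq k)
  have : ∀ i : Fin 3, ∃ j k : Fin 3, j ≠ i ∧ k ≠ i ∧ j ≠ k := by decide
  obtain ⟨j, k, h1, h2, h3⟩ := this i
  exact ⟨j, k, h1, h2, h3, key j k⟩

theorem one_lt_mm {q : ℕ} (hq : 2 ≤ q) (i : Fin 3) : 1 < mm q i :=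
  lt_of_lt_of_le (Nat.one_lt_pow (by norm_num) (by omega)) (mm_ge hq i)

theorem odd_mm {q : ℕ} (i : Fin 3) : Odd (mm q i) := by
  rw [← Nat.not_even_iff_odd, even_iff_two_dvd]
  intro h
  exact prime_mm h (Or.inl rfl)

/-- the product of the three torus orders -/
noncomputable def PP (q : ℕ) : ℕ := mm q 0 * mm q 1 * mm q 2

theorem PP_lt {q : ℕ} (hq : 2 ≤ q) : PP q < q ^ 25 := by
  have h0 := mm0_lt hq
  have h1 := mm1_lt hq
  have h2 := mm2_lt hq
  calc PP q < q ^ 8 * q ^ 8 * q ^ 9 :=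
        Nat.mul_lt_mul'' (Nat.mul_lt_mul'' h0 h1) h2
    _ = q ^ 25 := by ring

theorem PP_ge {q : ℕ} (hq : 2 ≤ q) : q ^ 7 * (q - 1) * (15 * q ^ 8) * q ^ 8 ≤ 16 * PP q := by
  have h0 := mm0_ge hq
  have h1 := mm1_ge' hq
  have h2 := mm2_ge hq
  calc q ^ 7 * (q - 1) * (15 * q ^ 8) * q ^ 8 ≤ mm q 0 * (16 * mm q 1) * mm q 2 :=
        Nat.mul_le_mul (Nat.mul_le_mul h0 h1) h2
    _ = 16 * PP q := by unfold PP; ring

theorem bound_odd {q : ℕ} (hq : 2 ≤ q) : 243 * (q + 1) ^ 8 < PP q := by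
  have h := PP_ge hq
  have h1 : 16 * (243 * (q + 1) ^ 8) < q ^ 7 * (q - 1) * (15 * q ^ 8) * q ^ 8 := by
    obtain ⟨x, rfl⟩ := Nat.exists_eq_add_of_le' hq
    have e : x + 2 - 1 = x + 1 := by omega
    rw [e]
    zify
    have : (0 : ℤ) < (x + 2) ^ 7 * (x + 1) * (15 * (x + 2) ^ 8) * (x + 2) ^ 8 - 16 * (243 * (x + 2 + 1) ^ 8) := by
      ring_nf
      (clear * -; positivity)
    linarith only [this]
  omega

theorem bound_two {q : ℕ} (hq : 3 ≤ q) : 2 ^ 14 * (q + 1) ^ 8 < PP q := by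
  have h := PP_ge (q := q) (by omega)
  have h1 : 16 * (2 ^ 14 * (q + 1) ^ 8) < q ^ 7 * (q - 1) * (15 * q ^ 8) * q ^ 8 := by
    obtain ⟨x, rfl⟩ := Nat.exists_eq_add_of_le' hq
    have e : x + 3 - 1 = x + 2 := by omega
    rw [e]
    zify
    have : (0 : ℤ) < (x + 3) ^ 7 * (x + 2) * (15 * (x + 3) ^ 8) * (x + 3) ^ 8 - 16 * (2 ^ 14 * (x + 3 + 1) ^ 8) := by
      ring_nf
      (clear * -; positivity)
    linarith only [this]
  omega

/-! ### the `t`-part -/

/-- the `t`-part of `n` -/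
def tp (t n : ℕ) : ℕ := t ^ n.factorization t

theorem tp_mul (t : ℕ) {a b : ℕ} (ha : a ≠ 0) (hb : b ≠ 0) : tp t (a * b) = tp t a * tp t b :=
  Nat.ordProj_mul t ha hb

theorem tp_prod (t : ℕ) {ι : Type*} [DecidableEq ι] (s : Finset ι) (f : ι → ℕ) (hf : ∀ i ∈ s, f i ≠ 0) :
    tp t (∏ i ∈ s, f i) = ∏ i ∈ s, tp t (f i) := by
  induction s using Finset.induction_on with
  | empty => simp [tp]
  | insert a s ha ih =>
    rw [Finset.prod_insert ha, Finset.prod_insert ha, tp_mul t (hf a (Finset.mem_insert_self a s)) ?_,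
      ih fun i hi => hf i (Finset.mem_insert_of_mem hi)]
    exact Finset.prod_ne_zero_iff.2 fun i hi => hf i (Finset.mem_insert_of_mem hi)

theorem tp_dvd (t n : ℕ) : tp t n ∣ n := Nat.ordProj_dvd n t

theorem tp_pos {t : ℕ} (ht : t.Prime) (n : ℕ) : 0 < tp t n := pow_pos ht.pos _

theorem tp_eq_one {t n : ℕ} (h : ¬ t ∣ n) : tp t n = 1 := by
  unfold tp
  rw [Nat.factorization_eq_zero_of_not_dvd h, pow_zero]

theorem tp_le_of_not_dvd {t n b : ℕ} (ht : t.Prime) (_hn : n ≠ 0) (h : ¬ t ^ (b + 1) ∣ n) : tp t n ≤ t ^ b := by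
  unfold tp
  apply Nat.pow_le_pow_right ht.pos
  by_contra hlt
  apply h
  exact (Nat.pow_dvd_pow t (by omega)).trans (Nat.ordProj_dvd n t)

theorem tp_weyl {t : ℕ} (ht : t.Prime) (ht2 : t ≠ 2) : tp t 696729600 ≤ 243 := by
  by_cases h3 : t = 3
  · subst h3
    exact tp_le_of_not_dvd (b := 5) ht (by norm_num) (by norm_num)
  by_cases h5 : t = 5
  · subst h5
    exact (tp_le_of_not_dvd (b := 2) ht (by norm_num) (by norm_num)).trans (by norm_num)
  by_cases h7 : t = 7
  · subst h7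
    exact (tp_le_of_not_dvd (b := 1) ht (by norm_num) (by norm_num)).trans (by norm_num)
  rw [tp_eq_one]
  · norm_num
  · intro h
    rw [show (696729600 : ℕ) = 2 ^ 14 * 3 ^ 5 * 5 ^ 2 * 7 by norm_num] at h
    rcases (Nat.Prime.dvd_mul ht).1 h with h | h
    · rcases (Nat.Prime.dvd_mul ht).1 h with h | h
      · rcases (Nat.Prime.dvd_mul ht).1 h with h | h
        · exact ht2 ((Nat.prime_dvd_prime_iff_eq ht Nat.prime_two).1 (ht.dvd_of_dvd_pow h))
        · exact h3 ((Nat.prime_dvd_prime_iff_eq ht Nat.prime_three).1 (ht.dvd_of_dvd_pow h))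
      · exact h5 ((Nat.prime_dvd_prime_iff_eq ht Nat.prime_five).1 (ht.dvd_of_dvd_pow h))
    · exact h7 ((Nat.prime_dvd_prime_iff_eq ht (by norm_num)).1 h)

theorem c_le {e q : ℕ} (hq : 2 ≤ q) : c e q ≤ (q + 1) ^ e.totient := by
  have h := cyclotomic_eval_le_add_one_pow_totient (q := (q : ℝ)) (by exact_mod_cast (show 1 < q by omega)) e
  have h1 : ((c e q : ℕ) : ℝ) = (cyclotomic e ℝ).eval (q : ℝ) := by
    have h2 : ((c e q : ℤ) : ℝ) = ((cyclotomic e ℤ).eval (q : ℤ) : ℤ) := by rw [cast_c e hq]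
    rw [← map_cyclotomic_int e ℝ, eval_map, ← Int.cast_natCast (R := ℝ), ← Int.cast_natCast (R := ℝ) q,
      ← eq_intCast (Int.castRingHom ℝ) (q : ℤ), eval₂_at_apply, eq_intCast]
    exact h2
  rw [← h1] at h
  exact_mod_cast h

theorem tp_order {t q e : ℕ} (ht : t.Prime) (hq : 2 ≤ q) (he : 0 < e) (h : ∀ n, t ∣ q ^ n - 1 ↔ e ∣ n) :
    tp t (q ^ e - 1) ≤ (q + 1) ^ e.totient := by
  have h1 : tp t (q ^ e - 1) ∣ c e q := by
    have h2 : q ^ e - 1 = c e q * ∏ j ∈ e.divisors.erase e, c j q := by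
      rw [← prod_c he hq]
      exact (Finset.mul_prod_erase _ _ (Nat.mem_divisors.2 ⟨dvd_refl _, he.ne'⟩)).symm
    have h3 : (tp t (q ^ e - 1)).Coprime (∏ j ∈ e.divisors.erase e, c j q) := by
      unfold tp
      apply Nat.Coprime.pow_left
      rw [ht.coprime_iff_not_dvd]
      intro h4
      obtain ⟨j, hj, hℓj⟩ := (Prime.dvd_finsetProd_iff ht.prime _).1 h4
      rw [Finset.mem_erase, Nat.mem_divisors] at hj
      have hj0 : 0 < j := Nat.pos_of_dvd_of_pos hj.2.1 he
      have h5 := hℓj.trans (c_dvd hj0 hq (dvd_refl j))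
      exact hj.1 (Nat.dvd_antisymm hj.2.1 ((h j).1 h5))
    have h4 := tp_dvd t (q ^ e - 1)
    nth_rewrite 2 [h2] at h4
    exact h3.dvd_of_dvd_mul_right h4
  exact (Nat.le_of_dvd (c_pos e hq) h1).trans (c_le hq)

theorem tp_lte {t q e d : ℕ} (ht : t.Prime) (ht2 : t ≠ 2) (hq : 2 ≤ q) (htq : ¬ t ∣ q) (he : 0 < e)
    (h : ∀ n, t ∣ q ^ n - 1 ↔ e ∣ n) (hd : 0 < d) (hed : e ∣ d) :
    tp t (q ^ d - 1) ≤ tp t (q ^ e - 1) * tp t d := by
  have : Fact t.Prime := ⟨ht⟩
  obtain ⟨j, rfl⟩ := hed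
  have hj : 0 < j := Nat.pos_of_mul_pos_left hd
  have h1 : 1 < q ^ e := Nat.one_lt_pow he.ne' (by omega)
  have h2 := padicValNat.pow_sub_pow (p := t) (ht.odd_of_ne_two ht2) h1 ((h e).2 (dvd_refl e))
    (fun h3 => htq (ht.dvd_of_dvd_pow h3)) hj.ne'
  rw [one_pow, ← pow_mul] at h2
  rw [← Nat.factorization_def _ ht, ← Nat.factorization_def _ ht, ← Nat.factorization_def _ ht] at h2
  have h3 : tp t (q ^ (e * j) - 1) = tp t (q ^ e - 1) * tp t j := by
    unfold tp
    rw [h2, pow_add]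
  rw [h3]
  apply Nat.mul_le_mul_left
  rw [tp_mul t he.ne' hj.ne']
  exact Nat.le_mul_of_pos_left _ (tp_pos ht e)

theorem tp_N'_odd {t q : ℕ} (ht : t.Prime) (ht2 : t ≠ 2) (hq : 2 ≤ q) (htq : ¬ t ∣ q) :
    tp t (N' q) ≤ 243 * (q + 1) ^ 8 := by
  have : Fact t.Prime := ⟨ht⟩
  set e := orderOf (q : ZMod t) with he'
  have h : ∀ n, t ∣ q ^ n - 1 ↔ e ∣ n := fun n => dvd_pow_sub_one_iff (by omega) n
  have he : 0 < e := by
    have h1 : e ∣ t - 1 := orderOf_dvd_pred ht htq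
    exact Nat.pos_of_dvd_of_pos h1 (by have := ht.two_le; omega)
  have hdd : ∀ d ∈ dd, 0 < d := by decide
  have h1 : tp t (N' q) = ∏ d ∈ dd, tp t (q ^ d - 1) :=
    tp_prod t dd _ fun d hd => (pow_sub_one_pos hq (hdd d hd)).ne'
  have h2 : ∀ d ∈ dd, tp t (q ^ d - 1) ≤ (if e ∣ d then (q + 1) ^ e.totient else 1) * tp t d := by
    intro d hd
    split_ifs with hed
    · exact (tp_lte ht ht2 hq htq he h (hdd d hd) hed).trans (Nat.mul_le_mul_right _ (tp_order ht hq he h))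
    · rw [tp_eq_one fun h3 => hed ((h d).1 h3), one_mul]
      exact tp_pos ht d
  rw [h1]
  calc ∏ d ∈ dd, tp t (q ^ d - 1) ≤ ∏ d ∈ dd, ((if e ∣ d then (q + 1) ^ e.totient else 1) * tp t d) :=
        Finset.prod_le_prod' h2
    _ = (∏ d ∈ dd, (if e ∣ d then (q + 1) ^ e.totient else 1)) * ∏ d ∈ dd, tp t d := Finset.prod_mul_distrib
    _ ≤ (q + 1) ^ 8 * 243 := by
        apply Nat.mul_le_mul
        · rw [Finset.prod_ite, Finset.prod_const, Finset.prod_const_one, mul_one, ← pow_mul]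
          apply Nat.pow_le_pow_right (by omega)
          by_cases h30 : e ≤ 30
          · have key : ∀ e ≤ 30, e.totient * (dd.filter (fun d => e ∣ d)).card ≤ 8 := by decide +kernel
            exact key e h30
          · have : dd.filter (fun d => e ∣ d) = ∅ := by
              rw [Finset.filter_eq_empty_iff]
              intro d hd hed
              have h4 : ∀ d ∈ dd, d ≤ 30 := by decide
              have h4' := h4 d hd
              have := Nat.le_of_dvd (hdd d hd) hed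
              omega
            rw [this]; simp
        · rw [← tp_prod t dd (fun d => d) fun d hd => (hdd d hd).ne']
          have : ∏ d ∈ dd, d = 696729600 := by decide +kernel
          rw [this]
          exact tp_weyl ht ht2
    _ = _ := by ring

theorem tp_N'_two {q : ℕ} (hq : 2 ≤ q) (htq : ¬ 2 ∣ q) : tp 2 (N' q) ≤ 2 ^ 14 * (q + 1) ^ 8 := by
  have hdd : ∀ d ∈ dd, 0 < d := by decide
  have hev : ∀ d ∈ dd, Even d := by decide
  have h1 : tp 2 (N' q) = ∏ d ∈ dd, tp 2 (q ^ d - 1) :=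
    tp_prod 2 dd _ fun d hd => (pow_sub_one_pos hq (hdd d hd)).ne'
  have hodd : q % 2 = 1 := by omega
  have h2q : 2 ∣ q - 1 := by omega
  have h0 : tp 2 (q + 1) * tp 2 (q - 1) ≤ 2 * (q + 1) := by
    have hp : ∀ n, n ≠ 0 → tp 2 n ≤ n := fun n hn => Nat.le_of_dvd (Nat.pos_of_ne_zero hn) (tp_dvd 2 n)
    by_cases h4 : 4 ∣ q - 1
    · have h5 : tp 2 (q + 1) ≤ 2 ^ 1 := tp_le_of_not_dvd Nat.prime_two (by omega) (by norm_num; (clear * - h4; omega))
      calc _ ≤ 2 ^ 1 * (q - 1) := Nat.mul_le_mul h5 (hp _ (by omega))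
        _ ≤ 2 * (q + 1) := by (clear * -; omega)
    · have h5 : tp 2 (q - 1) ≤ 2 ^ 1 := tp_le_of_not_dvd Nat.prime_two (by omega) (by norm_num; omega)
      calc _ ≤ (q + 1) * 2 ^ 1 := Nat.mul_le_mul (hp _ (by omega)) h5
        _ ≤ 2 * (q + 1) := by omega
  have h2 : ∀ d ∈ dd, 2 * tp 2 (q ^ d - 1) ≤ 2 * (q + 1) * tp 2 d := by
    intro d hd
    have h3 := padicValNat.pow_two_sub_pow (x := q) (y := 1) (by omega) h2q htq (hdd d hd).ne' (hev d hd)
    rw [one_pow] at h3
    rw [← Nat.factorization_def _ Nat.prime_two, ← Nat.factorization_def _ Nat.prime_two,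
      ← Nat.factorization_def _ Nat.prime_two, ← Nat.factorization_def _ Nat.prime_two] at h3
    have h4 : 2 * tp 2 (q ^ d - 1) = tp 2 (q + 1) * tp 2 (q - 1) * tp 2 d := by
      unfold tp
      rw [← pow_add, ← pow_add, ← h3, pow_succ']
    rw [h4]
    exact Nat.mul_le_mul_right _ h0
  have h3 : ∀ d ∈ dd, tp 2 (q ^ d - 1) ≤ (q + 1) * tp 2 d := by
    intro d hd
    have := h2 d hd
    have e : 2 * (q + 1) * tp 2 d = 2 * ((q + 1) * tp 2 d) := by ring
    omega
  rw [h1]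
  calc ∏ d ∈ dd, tp 2 (q ^ d - 1) ≤ ∏ d ∈ dd, ((q + 1) * tp 2 d) := Finset.prod_le_prod' h3
    _ = (∏ d ∈ dd, (q + 1)) * ∏ d ∈ dd, tp 2 d := Finset.prod_mul_distrib
    _ ≤ (q + 1) ^ 8 * 2 ^ 14 := by
        apply Nat.mul_le_mul
        · rw [Finset.prod_const]
          exact le_of_eq (by rw [show dd.card = 8 by decide])
        · rw [← tp_prod 2 dd (fun d => d) fun d hd => (hdd d hd).ne']
          have : ∏ d ∈ dd, d = 696729600 := by decide +kernel
          rw [this]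
          exact tp_le_of_not_dvd Nat.prime_two (by norm_num) (by norm_num)
    _ = _ := by ring

/-- **the `t`-part of `|E₈(q)|`, `t ∤ q`** -/
theorem tp_N'_lt {t q : ℕ} (ht : t.Prime) (hq : 2 ≤ q) (htq : ¬ t ∣ q) : tp t (N' q) < PP q := by
  by_cases ht2 : t = 2
  · subst ht2
    exact (tp_N'_two hq htq).trans_lt (bound_two (by
      rcases Nat.lt_or_ge q 3 with h | h
      · exfalso
        have : q = 2 := by omega
        exact htq ⟨1, by omega⟩
      · exact h))
  · exact (tp_N'_odd ht ht2 hq htq).trans_lt (bound_odd hq)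

theorem tp_N_lt {t q : ℕ} (ht : t.Prime) (hq : 2 ≤ q) (htq : ¬ t ∣ q) : tp t (N q) < PP q := by
  unfold N
  rw [tp_mul t (pow_ne_zero _ (by omega)) (N'_pos hq).ne',
    tp_eq_one (fun h => htq (ht.dvd_of_dvd_pow h)), one_mul]
  exact tp_N'_lt ht hq htq

theorem N'_ge {q : ℕ} (hq : 2 ≤ q) : q ^ 127 ≤ N' q := by
  have hq1 : 1 ≤ q := by omega
  have key : ∀ d, 8 ≤ d → 255 * q ^ d ≤ 256 * (q ^ d - 1) := by
    intro d hd
    have h1 : 2 ^ 8 ≤ q ^ d := (Nat.pow_le_pow_right (by norm_num) hd).trans (Nat.pow_le_pow_left hq d)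
    omega
  have h2 : 3 * q ^ 2 ≤ 4 * (q ^ 2 - 1) := by
    have : 4 ≤ q ^ 2 := by nlinarith
    omega
  have e : N' q = (q ^ 2 - 1) * ∏ d ∈ ({8, 12, 14, 18, 20, 24, 30} : Finset ℕ), (q ^ d - 1) := by
    unfold N' dd
    rw [Finset.prod_insert (by decide)]
  have h3 : 255 ^ 7 * q ^ 126 ≤ 256 ^ 7 * ∏ d ∈ ({8, 12, 14, 18, 20, 24, 30} : Finset ℕ), (q ^ d - 1) := by
    calc 255 ^ 7 * q ^ 126 = ∏ d ∈ ({8, 12, 14, 18, 20, 24, 30} : Finset ℕ), (255 * q ^ d) := by
          repeat rw [Finset.prod_insert (by decide)]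
          rw [Finset.prod_singleton]
          ring
      _ ≤ ∏ d ∈ ({8, 12, 14, 18, 20, 24, 30} : Finset ℕ), (256 * (q ^ d - 1)) := by
          apply Finset.prod_le_prod'
          intro d hd
          exact key d (by revert d; decide)
      _ = _ := by
          rw [Finset.prod_mul_distrib]
          congr 1
  have h4 : (3 * q ^ 2) * (255 ^ 7 * q ^ 126) ≤ (4 * 256 ^ 7) * N' q := by
    rw [e]
    calc _ ≤ (4 * (q ^ 2 - 1)) * (256 ^ 7 * ∏ d ∈ ({8, 12, 14, 18, 20, 24, 30} : Finset ℕ), (q ^ d - 1)) :=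
          Nat.mul_le_mul h2 h3
      _ = _ := by ring
  have h5 : (4 * 256 ^ 7) * q ^ 127 ≤ (3 * q ^ 2) * (255 ^ 7 * q ^ 126) := by
    have : (3 * q ^ 2) * (255 ^ 7 * q ^ 126) = (3 * 255 ^ 7 * q) * q ^ 127 := by ring
    rw [this]
    apply Nat.mul_le_mul_right
    calc 4 * 256 ^ 7 ≤ 3 * 255 ^ 7 * 2 := by norm_num
      _ ≤ _ := Nat.mul_le_mul_left _ hq
  exact Nat.le_of_mul_le_mul_left (h5.trans h4) (by norm_num)

end Cfsg.Agent.H416.Arith
end

private theorem dce_a89cdc888bc7 : _root_.True := by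
  try have : _root_.True := by simp only [_root_.Cfsg.Agent.H416.Arith.tp.eq_1]
  exact _root_.True.intro
end

-- part: H416/E8Iso
section
set_option linter.all false
open scoped Cfsg.Agent.FastGrp

/-!
# The tori of orders `Φ₁₅(q)`, `Φ₂₄(q)`, `Φ₃₀(q)` of `E₈(q)` are isolated (helper416)
-/

set_option autoImplicit false

namespace Cfsg.Agent.H416.E8Iso

open Cfsg Cfsg.Agent.H416.Iso Cfsg.Agent.H416.Arith Cfsg.Agent.H363.Frat

universe u

variable {F : Type u} [Field F] [Fintype F] {q : ℕ}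

theorem card_E8 (hF : Fintype.card F = q) : Nat.card ↥(Cfsg.Lie.chevE8.group F) = N q := by
  rw [S1065.result hF, N_eq]

theorem weyl_prime {ℓ : ℕ} (hℓ : ℓ.Prime) (h : ℓ ∣ 696729600) : ℓ = 2 ∨ ℓ = 3 ∨ ℓ = 5 ∨ ℓ = 7 := by
  rw [show (696729600 : ℕ) = 2 ^ 14 * 3 ^ 5 * 5 ^ 2 * 7 by norm_num] at h
  rcases (Nat.Prime.dvd_mul hℓ).1 h with h | h
  · rcases (Nat.Prime.dvd_mul hℓ).1 h with h | h
    · rcases (Nat.Prime.dvd_mul hℓ).1 h with h | h
      · exact Or.inl ((Nat.prime_dvd_prime_iff_eq hℓ Nat.prime_two).1 (hℓ.dvd_of_dvd_pow h))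
      · exact Or.inr (Or.inl ((Nat.prime_dvd_prime_iff_eq hℓ Nat.prime_three).1 (hℓ.dvd_of_dvd_pow h)))
    · exact Or.inr (Or.inr (Or.inl ((Nat.prime_dvd_prime_iff_eq hℓ Nat.prime_five).1 (hℓ.dvd_of_dvd_pow h))))
  · exact Or.inr (Or.inr (Or.inr ((Nat.prime_dvd_prime_iff_eq hℓ (by norm_num)).1 h)))

/-- the centraliser of an element of prime order `ℓ ∣ mm q i` has order `mm q i` -/
theorem card_centralizer (hF : Fintype.card F = q) {i : Fin 3} {ℓ : ℕ} (hℓ : ℓ.Prime) (h : ℓ ∣ mm q i)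
    {x : ↥(Cfsg.Lie.chevE8.group F)} (hx : orderOf x = ℓ) :
    Nat.card ↥(Subgroup.centralizer {x}) = mm q i := by
  have hq2 : 2 ≤ q := by rw [← hF]; exact Fintype.one_lt_card
  have hp : Cfsg.Agent.Nodes.RGDChev.IsType Cfsg.Lie.chevE8 8 CoxeterMatrix.E₈ := by simp
  have hW : Nat.card CoxeterMatrix.E₈.Group = 696729600 :=
    Cfsg.Agent.S1093.result (⟨8, CoxeterMatrix.E₈⟩, 696729600) (by simp)
  have : Finite CoxeterMatrix.E₈.Group := Nat.finite_of_card_ne_zero (by rw [hW]; norm_num)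
  have hNF : Nat.card F = q := by rw [Nat.card_eq_fintype_card, hF]
  have h1 := Cfsg.Agent.H378.Regular.centralizer_fin hp CoxeterMatrix.E₈.toCoxeterSystem
    Cfsg.Agent.H129.TorusChar.invC_E8 (F := F) (x := x) hℓ (by rw [hNF]; exact base_mm hq2 hℓ h) hx
    (by rw [hW]; exact fun h2 => prime_mm h (weyl_prime hℓ h2)) (m := ix i) (ix_pos i)
    (by fin_cases i <;> decide) (not_dvd_ix hℓ h i)
    (by rw [hNF, ← cast_c _ hq2, ← mm_eq]; exact_mod_cast h)
  rw [h1.2.1, hNF, mm_eq]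
  rfl

/-- **the three tori are isolated** -/
theorem isol_E8 (hF : Fintype.card F = q) (i : Fin 3) : Isol ↥(Cfsg.Lie.chevE8.group F) (mm q i) := by
  intro r s hr hs hrm hsm g hg
  have hx : orderOf (g ^ s) = r := by
    rw [orderOf_pow' g hs.ne_zero, hg, Nat.gcd_eq_right (Dvd.intro_left r rfl)]
    exact Nat.mul_div_cancel _ hs.pos
  have h1 := card_centralizer hF hr hrm hx
  have h2 : g ∈ Subgroup.centralizer {g ^ s} := by
    rw [Subgroup.mem_centralizer_singleton_iff]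
    exact (Commute.pow_self g s).eq.symm
  have h3 : orderOf (⟨g, h2⟩ : ↥(Subgroup.centralizer {g ^ s})) ∣ Nat.card ↥(Subgroup.centralizer {g ^ s}) :=
    orderOf_dvd_natCard _
  rw [← Subgroup.orderOf_coe, h1] at h3
  simp only at h3
  rw [hg] at h3
  exact hsm ((Dvd.intro_left r rfl).trans h3)

end Cfsg.Agent.H416.E8Iso
end
end
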