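import Mathlib
import Cfsg.Agent.Lib.Zsigmondy
import Cfsg.Agent.H677.OrdAltSpor
import Cfsg.Agent.H416.E8Iso
import Cfsg.Agent.OrdCrit.Main
import Cfsg.Agent.Prune
set_option linter.all false
prune_inst 0x7f00000000000000000000000000000000000000000000000000000000000000000000000000000000000000000000000000000000000000000000000000000000000000000000000000000000000000003fffffffffffffffffffffffffffbeffbdffffffff
open scoped Cfsg.Agent.FastGrp

-- part: H416/LieArith
section
/-!
# Orders of groups of Lie type and primitive prime divisors (helper416)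

`Ex T b`: `b` is an exponent of type `T`; `top T`: the largest exponent.

* `exists_ex`: a prime dividing the `p'`-part of the order divides `p ^ (k b) - 1` for an exponent `b`;
* `top_dvd`: a primitive prime divisor of `p ^ (k * top T) - 1` divides the order;
* `only_E8`: the exponents `24 f`, `30 f`, and the size of the `p`-part determine `E₈(p ^ f)`.
-/

set_option autoImplicit false

namespace Cfsg.Agent.H416.LieArith

open Cfsg.Agent.H437 Finset

/-- the exponents: every prime factor of the `p'`-part of the order divides `q ^ b - 1` for an exponent `b` -/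
def Ex : _root_.Cfsg.Agent.H437.LT → ℕ → Prop
  | .A n, b => 2 ≤ b ∧ b ≤ n
  | .U n, b => ∃ i, 2 ≤ i ∧ i ≤ n ∧ ((Even i ∧ b = i) ∨ (Odd i ∧ b = 2 * i))
  | .C m, b => ∃ i, 1 ≤ i ∧ i ≤ m ∧ b = 2 * i
  | .P m, b => b = m ∨ ∃ i, 1 ≤ i ∧ i ≤ m - 1 ∧ b = 2 * i
  | .M m, b => b = 2 * m ∨ ∃ i, 1 ≤ i ∧ i ≤ m - 1 ∧ b = 2 * i
  | .G2, b => b = 2 ∨ b = 6
  | .F4, b => b = 2 ∨ b = 6 ∨ b = 8 ∨ b = 12
  | .E6, b => b = 2 ∨ b = 5 ∨ b = 6 ∨ b = 8 ∨ b = 9 ∨ b = 12
  | .E7, b => b = 2 ∨ b = 6 ∨ b = 8 ∨ b = 10 ∨ b = 12 ∨ b = 14 ∨ b = 18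
  | .E8, b => b = 2 ∨ b = 8 ∨ b = 12 ∨ b = 14 ∨ b = 18 ∨ b = 20 ∨ b = 24 ∨ b = 30
  | .TE6, b => b = 2 ∨ b = 10 ∨ b = 6 ∨ b = 8 ∨ b = 18 ∨ b = 12
  | .TD4, b => b = 2 ∨ b = 6 ∨ b = 12
  | .Sz, b => b = 1 ∨ b = 4
  | .Ree, b => b = 1 ∨ b = 6
  | .TF4, b => b = 1 ∨ b = 6 ∨ b = 4 ∨ b = 12

/-- the largest exponent -/
def top : _root_.Cfsg.Agent.H437.LT → ℕ
  | .A n => n
  | .U n => if Even n then 2 * (n - 1) else 2 * n
  | .C m => 2 * m
  | .P m => 2 * (m - 1)
  | .M m => 2 * m
  | .G2 => 6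
  | .F4 => 12
  | .E6 => 12
  | .E7 => 18
  | .E8 => 30
  | .TE6 => 18
  | .TD4 => 12
  | .Sz => 4
  | .Ree => 6
  | .TF4 => 12

theorem dvd_minus {r p k i : ℕ} (h : r ∣ (p ^ k) ^ i - 1) : r ∣ p ^ (k * i) - 1 := by rwa [pow_mul]

theorem dvd_plus {r p k i : ℕ} (h : r ∣ (p ^ k) ^ i + 1) : r ∣ p ^ (k * (2 * i)) - 1 := by
  have h1 : p ^ (k * (2 * i)) - 1 = ((p ^ k) ^ i + 1) * ((p ^ k) ^ i - 1) := by
    have e : p ^ (k * (2 * i)) = ((p ^ k) ^ i) ^ 2 := by rw [← pow_mul, ← pow_mul]; ring_nf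
    rw [e]
    have := Nat.sq_sub_sq ((p ^ k) ^ i) 1
    rw [one_pow] at this
    exact this
  rw [h1]
  exact h.mul_right _

theorem dvd_d4 {r p k : ℕ} (hp : 1 ≤ p) (h : r ∣ (p ^ k) ^ 8 + (p ^ k) ^ 4 + 1) : r ∣ p ^ (k * 12) - 1 := by
  have h1 : p ^ (k * 12) - 1 = ((p ^ k) ^ 4 - 1) * ((p ^ k) ^ 8 + (p ^ k) ^ 4 + 1) := by
    have h0 : 1 ≤ (p ^ k) ^ 4 := Nat.one_le_pow _ _ (Nat.pow_pos hp)
    have h2 : 1 ≤ p ^ (k * 12) := Nat.one_le_pow _ _ hp
    zify [h0, h2]
    rw [pow_mul]
    ring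
  rw [h1]
  exact h.mul_left _

theorem exists_ex {T : _root_.Cfsg.Agent.H437.LT} {p k r : ℕ} (hp : p.Prime) (hr : r.Prime) (h : r ∣ T.cof (p ^ k)) :
    ∃ b, Ex T b ∧ r ∣ p ^ (k * b) - 1 := by
  have hp1 : 1 ≤ p := hp.one_le
  cases T with
  | A n =>
    obtain ⟨i, hi, h⟩ := (Prime.dvd_finsetProd_iff hr.prime _).1 h
    rw [mem_range] at hi
    exact ⟨i + 2, ⟨by omega, by omega⟩, dvd_minus h⟩
  | U n =>
    obtain ⟨i, hi, h⟩ := (Prime.dvd_finsetProd_iff hr.prime _).1 h
    rw [mem_range] at hi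
    by_cases hev : Even i
    · rw [if_pos hev] at h
      exact ⟨i + 2, ⟨i + 2, by omega, by omega, Or.inl ⟨by rw [Nat.even_add]; simp only [hev, _root_.even_two], rfl⟩⟩, dvd_minus h⟩
    · rw [if_neg hev] at h
      exact ⟨2 * (i + 2), ⟨i + 2, by omega, by omega, Or.inr ⟨by
        rw [← Nat.not_even_iff_odd, Nat.even_add]; simp only [hev, _root_.even_two, _root_.iff_true, _root_.not_false_eq_true], rfl⟩⟩, dvd_plus h⟩
  | C m =>
    obtain ⟨i, hi, h⟩ := (Prime.dvd_finsetProd_iff hr.prime _).1 h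
    rw [mem_range] at hi
    exact ⟨2 * (i + 1), ⟨i + 1, by omega, by omega, rfl⟩, dvd_minus h⟩
  | P m =>
    rcases (Nat.Prime.dvd_mul hr).1 h with h | h
    · exact ⟨m, Or.inl rfl, dvd_minus h⟩
    · obtain ⟨i, hi, h⟩ := (Prime.dvd_finsetProd_iff hr.prime _).1 h
      rw [mem_range] at hi
      exact ⟨2 * (i + 1), Or.inr ⟨i + 1, by omega, by omega, rfl⟩, dvd_minus h⟩
  | M m =>
    rcases (Nat.Prime.dvd_mul hr).1 h with h | h
    · exact ⟨2 * m, Or.inl rfl, dvd_plus h⟩
    · obtain ⟨i, hi, h⟩ := (Prime.dvd_finsetProd_iff hr.prime _).1 h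
      rw [mem_range] at hi
      exact ⟨2 * (i + 1), Or.inr ⟨i + 1, by omega, by omega, rfl⟩, dvd_minus h⟩
  | G2 =>
    simp only [LT.cof, Nat.Prime.dvd_mul hr] at h
    rcases h with h | h
    · exact ⟨_, by simp [Ex], dvd_minus h⟩
    · exact ⟨_, by simp [Ex], dvd_minus h⟩
  | F4 =>
    simp only [LT.cof, Nat.Prime.dvd_mul hr] at h
    rcases h with ((h | h) | h) | h <;> exact ⟨_, by simp [Ex], dvd_minus h⟩
  | E6 =>
    simp only [LT.cof, Nat.Prime.dvd_mul hr] at h
    rcases h with ((((h | h) | h) | h) | h) | h <;> exact ⟨_, by simp [Ex], dvd_minus h⟩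
  | E7 =>
    simp only [LT.cof, Nat.Prime.dvd_mul hr] at h
    rcases h with (((((h | h) | h) | h) | h) | h) | h <;> exact ⟨_, by simp [Ex], dvd_minus h⟩
  | E8 =>
    simp only [LT.cof, Nat.Prime.dvd_mul hr] at h
    rcases h with ((((((h | h) | h) | h) | h) | h) | h) | h <;> exact ⟨_, by simp [Ex], dvd_minus h⟩
  | TE6 =>
    simp only [LT.cof, Nat.Prime.dvd_mul hr] at h
    rcases h with ((((h | h) | h) | h) | h) | h
    · exact ⟨_, by simp [Ex], dvd_minus h⟩
    · exact ⟨_, by simp [Ex], dvd_plus h⟩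
    · exact ⟨_, by simp [Ex], dvd_minus h⟩
    · exact ⟨_, by simp [Ex], dvd_minus h⟩
    · exact ⟨_, by simp [Ex], dvd_plus h⟩
    · exact ⟨_, by simp [Ex], dvd_minus h⟩
  | TD4 =>
    simp only [LT.cof, Nat.Prime.dvd_mul hr] at h
    rcases h with (h | h) | h
    · exact ⟨_, by simp [Ex], dvd_minus h⟩
    · exact ⟨_, by simp [Ex], dvd_minus h⟩
    · exact ⟨_, by simp [Ex], dvd_d4 hp1 h⟩
  | Sz =>
    simp only [LT.cof, Nat.Prime.dvd_mul hr] at h
    rcases h with h | h
    · exact ⟨1, by simp [Ex], dvd_minus (by rwa [pow_one])⟩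
    · exact ⟨_, by simp [Ex], dvd_plus h⟩
  | Ree =>
    simp only [LT.cof, Nat.Prime.dvd_mul hr] at h
    rcases h with h | h
    · exact ⟨1, by simp [Ex], dvd_minus (by rwa [pow_one])⟩
    · exact ⟨_, by simp [Ex], dvd_plus h⟩
  | TF4 =>
    simp only [LT.cof, Nat.Prime.dvd_mul hr] at h
    rcases h with ((h | h) | h) | h
    · exact ⟨1, by simp [Ex], dvd_minus (by rwa [pow_one])⟩
    · exact ⟨_, by simp [Ex], dvd_plus h⟩
    · exact ⟨_, by simp [Ex], dvd_minus h⟩
    · exact ⟨_, by simp [Ex], dvd_plus h⟩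

/-- `r` is a primitive prime divisor of `p ^ e - 1` -/
def Prim (p e r : ℕ) : Prop := r.Prime ∧ ∀ j, r ∣ p ^ j - 1 ↔ e ∣ j

theorem Prim.not_dvd_p {p e r : ℕ} (h : Prim p e r) (he : 0 < e) (hp : 1 ≤ p) : ¬ r ∣ p := by
  intro hr
  have h1 := (h.2 e).2 (dvd_refl e)
  have h2 : r ∣ p ^ e := hr.trans (dvd_pow_self p he.ne')
  have h3 : 1 ≤ p ^ e := Nat.one_le_pow _ _ hp
  have h4 := Nat.dvd_sub h2 h1
  rw [Nat.sub_sub_self h3] at h4
  exact h.1.one_lt.ne' (Nat.dvd_one.1 h4)

theorem dvd_of_dd {T : _root_.Cfsg.Agent.H437.LT} {p k r : ℕ} (hr : r.Prime) (h : r ∣ T.dd (p ^ k)) : r ∣ p ^ (k * 2) - 1 ∨ r = 2 := by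
  have h2 : ∀ x, r ∣ Nat.gcd 4 x → r = 2 := by
    intro x h
    have h1 : r ∣ 2 ^ 2 := h.trans (Nat.gcd_dvd_left 4 _)
    exact (Nat.prime_dvd_prime_iff_eq hr Nat.prime_two).1 (hr.dvd_of_dvd_pow h1)
  have h3 : ∀ x, r ∣ Nat.gcd 2 x → r = 2 := by
    intro x h
    exact (Nat.prime_dvd_prime_iff_eq hr Nat.prime_two).1 (h.trans (Nat.gcd_dvd_left 2 _))
  have hm : r ∣ p ^ k - 1 → r ∣ p ^ (k * 2) - 1 := by
    intro h
    refine h.trans ?_
    rw [pow_mul]
    have := Nat.sub_dvd_pow_sub_pow (p ^ k) 1 2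
    rwa [one_pow] at this
  have hpl : r ∣ p ^ k + 1 → r ∣ p ^ (k * 2) - 1 := by
    intro h
    have := dvd_plus (r := r) (p := p) (k := k) (i := 1) (by rwa [pow_one])
    rwa [mul_one] at this
  have hone : r ∣ 1 → False := fun h => hr.one_lt.ne' (Nat.dvd_one.1 h)
  cases T with
  | A n => exact Or.inl (hm (h.trans (Nat.gcd_dvd_right _ _)))
  | U n => exact Or.inl (hpl (h.trans (Nat.gcd_dvd_right _ _)))
  | C m => exact Or.inr (h3 _ h)
  | P m => exact Or.inr (h2 _ h)
  | M m => exact Or.inr (h2 _ h)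
  | G2 => exact (hone h).elim
  | F4 => exact (hone h).elim
  | E6 => exact Or.inl (hm (h.trans (Nat.gcd_dvd_right _ _)))
  | E7 => exact Or.inr (h3 _ h)
  | E8 => exact (hone h).elim
  | TE6 => exact Or.inl (hpl (h.trans (Nat.gcd_dvd_right _ _)))
  | TD4 => exact (hone h).elim
  | Sz => exact (hone h).elim
  | Ree => exact (hone h).elim
  | TF4 => exact (hone h).elim

/-- a primitive prime divisor of the order: its exponent divides `k b`, `b` an exponent of the type -/
theorem exists_of_dvd {T : _root_.Cfsg.Agent.H437.LT} {p k M e r : ℕ} (hO : IsOrd T p k M) (hr : Prim p e r) (he : 0 < e) (h : r ∣ M) :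
    ∃ b, Ex T b ∧ e ∣ k * b := by
  have h1 : r ∣ (p ^ k) ^ T.expo * T.cof (p ^ k) := by
    rw [← hO.eq]; exact h.mul_left _
  rcases (Nat.Prime.dvd_mul hr.1).1 h1 with h2 | h2
  · exact absurd (hr.1.dvd_of_dvd_pow (hr.1.dvd_of_dvd_pow h2)) (hr.not_dvd_p he hO.prime.one_le)
  · obtain ⟨b, hb, h3⟩ := exists_ex hO.prime hr.1 h2
    exact ⟨b, hb, (hr.2 _).1 h3⟩

theorem prim_plus {p k a r : ℕ} (hk : 0 < k) (ha : 0 < a) (hr : Prim p (k * (2 * a)) r) : r ∣ (p ^ k) ^ a + 1 := by
  have h1 := (hr.2 _).2 (dvd_refl _)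
  have h2 : p ^ (k * (2 * a)) - 1 = ((p ^ k) ^ a + 1) * ((p ^ k) ^ a - 1) := by
    have e : p ^ (k * (2 * a)) = ((p ^ k) ^ a) ^ 2 := by rw [← pow_mul, ← pow_mul]; ring_nf
    rw [e]
    have := Nat.sq_sub_sq ((p ^ k) ^ a) 1
    rw [one_pow] at this
    exact this
  rw [h2] at h1
  rcases (Nat.Prime.dvd_mul hr.1).1 h1 with h | h
  · exact h
  · exfalso
    have h3 := (hr.2 _).1 (dvd_minus h)
    have h4 := Nat.le_of_dvd (Nat.mul_pos hk ha) h3
    have h5 : k * a < k * (2 * a) := Nat.mul_lt_mul_of_pos_left (by omega) hk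
    omega

theorem prim_minus {p k a r : ℕ} (hr : Prim p (k * a) r) : r ∣ (p ^ k) ^ a - 1 := by
  rw [← pow_mul]
  exact (hr.2 _).2 (dvd_refl _)

theorem prim_d4 {p k r : ℕ} (hp : 1 ≤ p) (hk : 0 < k) (hr : Prim p (k * 12) r) :
    r ∣ (p ^ k) ^ 8 + (p ^ k) ^ 4 + 1 := by
  have h1 := (hr.2 _).2 (dvd_refl _)
  have h2 : p ^ (k * 12) - 1 = ((p ^ k) ^ 4 - 1) * ((p ^ k) ^ 8 + (p ^ k) ^ 4 + 1) := by
    have h0 : 1 ≤ (p ^ k) ^ 4 := Nat.one_le_pow _ _ (Nat.pow_pos hp)
    have h2 : 1 ≤ p ^ (k * 12) := Nat.one_le_pow _ _ hp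
    zify [h0, h2]
    rw [pow_mul]
    ring
  rw [h2] at h1
  rcases (Nat.Prime.dvd_mul hr.1).1 h1 with h | h
  · exfalso
    have h3 := (hr.2 _).1 (dvd_minus h)
    have h4 := Nat.le_of_dvd (by omega) h3
    omega
  · exact h

/-- primitive prime divisors for the largest exponent divide the cofactor -/
theorem top_dvd_cof {T : _root_.Cfsg.Agent.H437.LT} {p k r : ℕ} (hp : p.Prime) (hk : 0 < k) (hv : T.Valid p k) (hr : Prim p (k * top T) r) :
    r ∣ T.cof (p ^ k) := by
  cases T with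
  | A n =>
    obtain ⟨n, rfl⟩ := Nat.exists_eq_add_of_le' hv.1
    have h := prim_minus hr
    exact h.trans (dvd_prod_of_mem (fun i => (p ^ k) ^ (i + 2) - 1) (mem_range.2 (show n < n + 2 - 1 by omega)))
  | U n =>
    have hn := hv.1
    by_cases hev : Even n
    · have e : top (.U n) = 2 * (n - 1) := if_pos hev
      rw [e] at hr
      have h := prim_plus hk (by omega) hr
      have h2 : ¬ Even (n - 3) := by
        rw [Nat.not_even_iff_odd]
        exact Nat.Even.sub_odd hn hev (by decide)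
      have h3 := dvd_prod_of_mem (fun i => (if Even i then (p ^ k) ^ (i + 2) - 1 else (p ^ k) ^ (i + 2) + 1))
        (mem_range.2 (show n - 3 < n - 1 by omega))
      rw [if_neg h2] at h3
      have e2 : n - 3 + 2 = n - 1 := by omega
      rw [e2] at h3
      exact h.trans h3
    · have e : top (.U n) = 2 * n := if_neg hev
      rw [e] at hr
      have h := prim_plus hk (by omega) hr
      have hodd : Odd n := Nat.not_even_iff_odd.1 hev
      have h2 : ¬ Even (n - 2) := by
        rw [Nat.not_even_iff_odd]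
        exact Nat.Odd.sub_even (by omega) hodd (by decide)
      have h3 := dvd_prod_of_mem (fun i => (if Even i then (p ^ k) ^ (i + 2) - 1 else (p ^ k) ^ (i + 2) + 1))
        (mem_range.2 (show n - 2 < n - 1 by omega))
      rw [if_neg h2] at h3
      have e2 : n - 2 + 2 = n := by omega
      rw [e2] at h3
      exact h.trans h3
  | C m =>
    have hm : 2 ≤ m := hv.1
    have h := prim_minus hr
    have h3 := dvd_prod_of_mem (fun i => (p ^ k) ^ (2 * (i + 1)) - 1) (mem_range.2 (show m - 1 < m by omega))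
    have e : m - 1 + 1 = m := by omega
    rw [e] at h3
    exact h.trans h3
  | P m =>
    have hm : 4 ≤ m := hv
    have h := prim_minus hr
    have h3 := dvd_prod_of_mem (fun i => (p ^ k) ^ (2 * (i + 1)) - 1) (mem_range.2 (show m - 2 < m - 1 by omega))
    have e : m - 2 + 1 = m - 1 := by omega
    rw [e] at h3
    exact (h.trans h3).mul_left _
  | M m =>
    have hm : 4 ≤ m := hv
    exact (prim_plus hk (by omega) hr).mul_right _
  | G2 => exact (prim_minus hr).mul_left _
  | F4 => exact (prim_minus hr).mul_left _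
  | E6 => exact (prim_minus hr).mul_left _
  | E7 => exact (prim_minus hr).mul_left _
  | E8 => exact (prim_minus hr).mul_left _
  | TE6 => exact ((prim_plus (a := 9) hk (by norm_num) hr).mul_left _).mul_right _
  | TD4 => exact (prim_d4 hp.one_le hk hr).mul_left _
  | Sz => exact (prim_plus (a := 2) hk (by norm_num) hr).mul_left _
  | Ree => exact (prim_plus (a := 3) hk (by norm_num) hr).mul_left _
  | TF4 => exact (prim_plus (a := 6) hk (by norm_num) hr).mul_left _

theorem Prim.mod {p e r : ℕ} (hr : Prim p e r) (hp : 1 ≤ p) (he : 0 < e) : e ∣ r - 1 := by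
  rw [← hr.2]
  have : Fact r.Prime := ⟨hr.1⟩
  have h1 := hr.not_dvd_p he hp
  rw [Cfsg.Agent.Lib.Zsigmondy.dvd_pow_sub_one_iff hp]
  exact Cfsg.Agent.Lib.Zsigmondy.orderOf_dvd_pred hr.1 h1

theorem top_dvd {T : _root_.Cfsg.Agent.H437.LT} {p k M r : ℕ} (hO : IsOrd T p k M) (h3 : 2 < top T) (hr : Prim p (k * top T) r) : r ∣ M := by
  have hk : 0 < k := Nat.pos_of_ne_zero hO.f_ne
  have he : 0 < k * top T := Nat.mul_pos hk (by omega)
  have h1 := top_dvd_cof hO.prime hk hO.valid hr
  have h2 : r ∣ T.dd (p ^ k) * M := by rw [hO.eq]; exact h1.mul_left _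
  rcases (Nat.Prime.dvd_mul hr.1).1 h2 with h | h
  · exfalso
    rcases dvd_of_dd hr.1 h with h | h
    · have h4 := (hr.2 _).1 h
      have h5 := Nat.le_of_dvd (by omega) h4
      have h6 : k * 2 < k * top T := Nat.mul_lt_mul_of_pos_left h3 hk
      omega
    · have h4 := Nat.le_of_dvd (by rw [h]; norm_num) (hr.mod hO.prime.one_le he)
      rw [h] at h4
      have h6 : k * 2 < k * top T := Nat.mul_lt_mul_of_pos_left h3 hk
      omega
  · exact h

theorem top_dvd' {T : _root_.Cfsg.Agent.H437.LT} {p k M r : ℕ} (hO : IsOrd T p k M) (h7 : 7 ≤ k * top T) (hr : Prim p (k * top T) r) :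
    r ∣ M := by
  by_cases h3 : 2 < top T
  · exact top_dvd hO h3 hr
  have hk : 0 < k := Nat.pos_of_ne_zero hO.f_ne
  have h2 : T = .A 2 := by
    have hv := hO.valid
    cases T with
    | A n =>
      have h4 : 2 ≤ n := hv.1
      have h5 : ¬ 2 < n := h3
      have : n = 2 := by omega
      rw [this]
    | U n =>
      exfalso
      have h4 : 3 ≤ n := hv.1
      apply h3
      show 2 < if Even n then 2 * (n - 1) else 2 * n
      split_ifs <;> omega
    | C m =>
      exfalso
      have h4 : 2 ≤ m := hv.1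
      apply h3
      show 2 < 2 * m
      omega
    | P m =>
      exfalso
      have h4 : 4 ≤ m := hv
      apply h3
      show 2 < 2 * (m - 1)
      omega
    | M m =>
      exfalso
      have h4 : 4 ≤ m := hv
      apply h3
      show 2 < 2 * m
      omega
    | G2 => exact absurd (by decide) h3
    | F4 => exact absurd (by decide) h3
    | E6 => exact absurd (by decide) h3
    | E7 => exact absurd (by decide) h3
    | E8 => exact absurd (by decide) h3
    | TE6 => exact absurd (by decide) h3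
    | TD4 => exact absurd (by decide) h3
    | Sz => exact absurd (by decide) h3
    | Ree => exact absurd (by decide) h3
    | TF4 => exact absurd (by decide) h3
  subst h2
  have he : 0 < k * top (.A 2) := by omega
  have h1 := top_dvd_cof hO.prime hk hO.valid hr
  have h2 : r ∣ LT.dd (.A 2) (p ^ k) * M := by rw [hO.eq]; exact h1.mul_left _
  rcases (Nat.Prime.dvd_mul hr.1).1 h2 with h | h
  · exfalso
    have h5 : r ∣ 2 := h.trans (Nat.gcd_dvd_left _ _)
    have h6 := (Nat.prime_dvd_prime_iff_eq hr.1 Nat.prime_two).1 h5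
    have h4 := Nat.le_of_dvd (by rw [h6]; norm_num) (hr.mod hO.prime.one_le he)
    rw [h6] at h4
    omega
  · exact h

theorem exists_prim {p e : ℕ} (hp : p.Prime) (he : 7 ≤ e) : ∃ r, Prim p e r := by
  obtain ⟨r, h1, h2, -, -⟩ := Cfsg.Agent.Lib.Zsigmondy.exists_primitive (a := p) (n := e) hp.two_le (by omega)
    (by intro h; omega) (by rintro ⟨-, h⟩; omega)
  exact ⟨r, h1, h2⟩

theorem eq_thirty {f x : ℕ} (h : 30 * f ∣ x) (hx : 0 < x) (hle : x ≤ 30 * f) : x = 30 * f :=
  le_antisymm hle (Nat.le_of_dvd hx h)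

theorem eq_twentyfour {f x : ℕ} (h : 24 * f ∣ x) (hx : 0 < x) (hle : x ≤ 30 * f) : x = 24 * f := by
  obtain ⟨c, rfl⟩ := h
  have hf : 0 < f := by
    rcases Nat.eq_zero_or_pos f with rfl | h
    · simp at hx
    · exact h
  have hc : c ≠ 0 := by rintro rfl; simp at hx
  have hc2 : c < 2 := by
    by_contra hlt
    have : 24 * f * 2 ≤ 24 * f * c := Nat.mul_le_mul_left _ (by omega)
    omega
  have : c = 1 := by omega
  rw [this, mul_one]

theorem only_E8 {T : _root_.Cfsg.Agent.H437.LT} {p k M f : ℕ} (hO : IsOrd T p k M) (hf : 0 < f) (hlo : 104 * f < k * T.expo)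
    (hhi : k * T.expo ≤ 120 * f) (htop : k * top T ≤ 30 * f) (h30 : ∃ b, Ex T b ∧ 30 * f ∣ k * b)
    (h24 : ∃ b, Ex T b ∧ 24 * f ∣ k * b) : T = .E8 ∧ k = f := by
  have hk : 0 < k := Nat.pos_of_ne_zero hO.f_ne
  obtain ⟨b, hb, h30⟩ := h30
  obtain ⟨b', hb', h24⟩ := h24
  have hv := hO.valid
  cases T with
  | A n =>
    exfalso
    obtain ⟨hb1, hb2⟩ := hb
    obtain ⟨hb1', hb2'⟩ := hb'
    have ht : k * n ≤ 30 * f := htop
    have e1 := eq_thirty h30 (Nat.mul_pos hk (by omega)) ((Nat.mul_le_mul_left k hb2).trans ht)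
    have e2 := eq_twentyfour h24 (Nat.mul_pos hk (by omega)) ((Nat.mul_le_mul_left k hb2').trans ht)
    have e3 : k * n = 30 * f := by
      have := Nat.mul_le_mul_left k hb2
      omega
    have hex : 2 * (k * (n * (n - 1) / 2)) = 30 * f * (n - 1) := by
      have h5 : 2 * (n * (n - 1) / 2) = n * (n - 1) := Nat.mul_div_cancel' (Nat.even_mul_pred_self n).two_dvd
      rw [mul_left_comm, h5, ← e3]; ring
    have hlo' : 104 * f < k * (n * (n - 1) / 2) := hlo
    have hhi' : k * (n * (n - 1) / 2) ≤ 120 * f := hhi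
    have h8 : n - 1 ≤ 8 := by
      by_contra h
      have : 30 * f * 9 ≤ 30 * f * (n - 1) := Nat.mul_le_mul_left _ (by omega)
      omega
    have h7 : 7 ≤ n - 1 := by
      by_contra h
      have : 30 * f * (n - 1) ≤ 30 * f * 6 := Nat.mul_le_mul_left _ (by omega)
      omega
    have hn : n = 8 ∨ n = 9 := by omega
    have hb9 : b' ≤ 9 := by omega
    rcases hn with rfl | rfl <;> interval_cases b' <;> omega
  | U n =>
    exfalso
    have hn3 : 3 ≤ n := hv.1
    have hlo' : 104 * f < k * (n * (n - 1) / 2) := hlo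
    have hhi' : k * (n * (n - 1) / 2) ≤ 120 * f := hhi
    have h5 : 2 * (n * (n - 1) / 2) = n * (n - 1) := Nat.mul_div_cancel' (Nat.even_mul_pred_self n).two_dvd
    have hex : 2 * (k * (n * (n - 1) / 2)) = k * (n * (n - 1)) := by rw [mul_left_comm, h5]
    obtain ⟨i, hi2, hin, hi⟩ := hb
    obtain ⟨i', hi2', hin', hi'⟩ := hb'
    by_cases hev : Even n
    · have ht : k * (2 * (n - 1)) ≤ 30 * f := by
        have : top (.U n) = 2 * (n - 1) := if_pos hev
        rw [this] at htop; exact htop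
      have hn4 : 4 ≤ n := by
        rcases Nat.lt_or_ge n 4 with h | h
        · exfalso
          have : n = 3 := by omega
          rw [this] at hev
          exact absurd hev (by decide)
        · exact h
      have e3 : k * (n - 1) = 15 * f := by
        rcases hi with ⟨hie, rfl⟩ | ⟨hio, rfl⟩
        · exfalso
          have h6 := Nat.le_of_dvd (Nat.mul_pos hk (by omega)) h30
          have h7 : k * b < k * (2 * (n - 1)) := Nat.mul_lt_mul_of_pos_left (by omega) hk
          omega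
        · have hin1 : i ≤ n - 1 := by
            rcases Nat.lt_or_ge i n with h | h
            · omega
            · exfalso
              have : i = n := by omega
              rw [this] at hio
              exact (Nat.not_even_iff_odd.2 hio) hev
          have h6 := Nat.le_of_dvd (Nat.mul_pos hk (by omega)) h30
          have h7 : k * (2 * i) ≤ k * (2 * (n - 1)) := Nat.mul_le_mul_left _ (by omega)
          have h8 : k * (2 * (n - 1)) = 2 * (k * (n - 1)) := by ring
          omega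
      have hex2 : k * (n * (n - 1)) = 15 * f * n := by
        rw [← e3]; ring
      have h16 : n ≤ 16 := by
        by_contra h
        have : 15 * f * 17 ≤ 15 * f * n := Nat.mul_le_mul_left _ (by omega)
        omega
      have h14 : 14 ≤ n := by
        by_contra h
        have : 15 * f * n ≤ 15 * f * 13 := Nat.mul_le_mul_left _ (by omega)
        omega
      have hn : n = 14 ∨ n = 15 ∨ n = 16 := by omega
      rcases hi' with ⟨hie, rfl⟩ | ⟨hio, rfl⟩
      · have h6 := Nat.le_of_dvd (Nat.mul_pos hk (by omega)) h24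
        have h7 : k * b' ≤ k * n := Nat.mul_le_mul_left _ hin'
        rcases hn with rfl | rfl | rfl <;> omega
      · have h8 : k * (2 * i') ≤ k * (2 * (n - 1)) := by
          apply Nat.mul_le_mul_left
          rcases Nat.lt_or_ge i' n with h | h
          · omega
          · exfalso
            have : i' = n := by omega
            rw [this] at hio
            exact (Nat.not_even_iff_odd.2 hio) hev
        have e2 := eq_twentyfour h24 (Nat.mul_pos hk (by omega)) (h8.trans ht)
        have hi16 : i' ≤ 16 := by omega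
        rcases hn with rfl | rfl | rfl
        · interval_cases i' <;> (solve | lia | omega)
        · exact absurd hev (by decide)
        · interval_cases i' <;> first | (clear * - hf e3 e2; omega) | exact absurd hio (by decide)
    · have hodd : Odd n := Nat.not_even_iff_odd.1 hev
      have ht : k * (2 * n) ≤ 30 * f := by
        have : top (.U n) = 2 * n := if_neg hev
        rw [this] at htop; exact htop
      have e3 : k * n = 15 * f := by
        rcases hi with ⟨hie, rfl⟩ | ⟨hio, rfl⟩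
        · exfalso
          have h6 := Nat.le_of_dvd (Nat.mul_pos hk (by omega)) h30
          have h7 : k * b < k * (2 * n) := Nat.mul_lt_mul_of_pos_left (by omega) hk
          omega
        · have h6 := Nat.le_of_dvd (Nat.mul_pos hk (by omega)) h30
          have h7 : k * (2 * i) ≤ k * (2 * n) := Nat.mul_le_mul_left _ (by omega)
          have h8 : k * (2 * n) = 2 * (k * n) := by ring
          omega
      have hex2 : k * (n * (n - 1)) = 15 * f * (n - 1) := by
        rw [← e3]; ring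
      have h16 : n - 1 ≤ 16 := by
        by_contra h
        have : 15 * f * 17 ≤ 15 * f * (n - 1) := Nat.mul_le_mul_left _ (by omega)
        omega
      have h14 : 14 ≤ n - 1 := by
        by_contra h
        have : 15 * f * (n - 1) ≤ 15 * f * 13 := Nat.mul_le_mul_left _ (by omega)
        omega
      have hn : n = 15 ∨ n = 16 ∨ n = 17 := by omega
      rcases hi' with ⟨hie, rfl⟩ | ⟨hio, rfl⟩
      · have h6 := Nat.le_of_dvd (Nat.mul_pos hk (by omega)) h24
        have h7 : k * b' ≤ k * n := Nat.mul_le_mul_left _ hin'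
        omega
      · have h8 : k * (2 * i') ≤ k * (2 * n) := Nat.mul_le_mul_left _ (by omega)
        have e2 := eq_twentyfour h24 (Nat.mul_pos hk (by omega)) (h8.trans ht)
        have hi16 : i' ≤ 17 := by omega
        rcases hn with rfl | rfl | rfl
        · interval_cases i' <;> first | (clear * - hlo' e3 e2; omega) | exact absurd hio (by decide)
        · exact absurd hodd (by decide)
        · interval_cases i' <;> (solve | lia | omega)
  | C m =>
    exfalso
    have ht : k * (2 * m) ≤ 30 * f := htop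
    obtain ⟨i, hi1, him, rfl⟩ := hb
    obtain ⟨i', hi1', him', rfl⟩ := hb'
    have e1 := eq_thirty h30 (Nat.mul_pos hk (by omega)) ((Nat.mul_le_mul_left k (by omega)).trans ht)
    have e2 := eq_twentyfour h24 (Nat.mul_pos hk (by omega)) ((Nat.mul_le_mul_left k (by omega)).trans ht)
    have e3 : k * m = 15 * f := by
      have h7 : k * (2 * i) ≤ k * (2 * m) := Nat.mul_le_mul_left k (by omega)
      have h8 : k * (2 * m) = 2 * (k * m) := by ring
      omega
    have hex : k * (m ^ 2) = 15 * f * m := by rw [← e3]; ring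
    have hlo' : 104 * f < k * m ^ 2 := hlo
    have hhi' : k * m ^ 2 ≤ 120 * f := hhi
    have h8 : m ≤ 8 := by
      by_contra h
      have : 15 * f * 9 ≤ 15 * f * m := Nat.mul_le_mul_left _ (by omega)
      omega
    have h7 : 7 ≤ m := by
      by_contra h
      have : 15 * f * m ≤ 15 * f * 6 := Nat.mul_le_mul_left _ (by omega)
      omega
    have hn : m = 7 ∨ m = 8 := by omega
    rcases hn with rfl | rfl <;> interval_cases i' <;> (clear * - hf e3 e2; (solve | lia | omega))
  | P m =>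
    exfalso
    have hm4 : 4 ≤ m := hv
    have ht : k * (2 * (m - 1)) ≤ 30 * f := htop
    have e3 : k * (m - 1) = 15 * f := by
      rcases hb with rfl | ⟨i, hi1, him, rfl⟩
      · exfalso
        have h6 := Nat.le_of_dvd (Nat.mul_pos hk (by omega)) h30
        have h7 : k * b < k * (2 * (b - 1)) := Nat.mul_lt_mul_of_pos_left (by omega) hk
        omega
      · have e1 := eq_thirty h30 (Nat.mul_pos hk (by omega)) ((Nat.mul_le_mul_left k (by omega)).trans ht)
        have h7 : k * (2 * i) ≤ k * (2 * (m - 1)) := Nat.mul_le_mul_left k (by omega)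
        have h8 : k * (2 * (m - 1)) = 2 * (k * (m - 1)) := by ring
        omega
    have hex : k * (m * (m - 1)) = 15 * f * m := by rw [← e3]; ring
    have hlo' : 104 * f < k * (m * (m - 1)) := hlo
    have hhi' : k * (m * (m - 1)) ≤ 120 * f := hhi
    have h8 : m ≤ 8 := by
      by_contra h
      have : 15 * f * 9 ≤ 15 * f * m := Nat.mul_le_mul_left _ (by omega)
      omega
    have h7 : 7 ≤ m := by
      by_contra h
      have : 15 * f * m ≤ 15 * f * 6 := Nat.mul_le_mul_left _ (by omega)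
      omega
    have hn : m = 7 ∨ m = 8 := by omega
    rcases hb' with rfl | ⟨i', hi1', him', rfl⟩
    · have h6 := Nat.le_of_dvd (Nat.mul_pos hk (by omega)) h24
      rcases hn with rfl | rfl <;> (clear * - hf e3 h6; omega)
    · have e2 := eq_twentyfour h24 (Nat.mul_pos hk (by omega)) ((Nat.mul_le_mul_left k (by omega)).trans ht)
      rcases hn with rfl | rfl <;> interval_cases i' <;> (clear * - hk e3 e2 hf; (solve | lia | omega))
  | M m =>
    exfalso
    have hm4 : 4 ≤ m := hv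
    have ht : k * (2 * m) ≤ 30 * f := htop
    have e3 : k * m = 15 * f := by
      have h8 : k * (2 * m) = 2 * (k * m) := by ring
      rcases hb with rfl | ⟨i, hi1, him, rfl⟩
      · have e1 := eq_thirty h30 (Nat.mul_pos hk (by omega)) ht
        omega
      · have h6 := Nat.le_of_dvd (Nat.mul_pos hk (by omega)) h30
        have h7 : k * (2 * i) < k * (2 * m) := Nat.mul_lt_mul_of_pos_left (by omega) hk
        omega
    have hex : k * (m * (m - 1)) = 15 * f * (m - 1) := by rw [← e3]; ring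
    have hlo' : 104 * f < k * (m * (m - 1)) := hlo
    have hhi' : k * (m * (m - 1)) ≤ 120 * f := hhi
    have h8 : m - 1 ≤ 8 := by
      by_contra h
      have : 15 * f * 9 ≤ 15 * f * (m - 1) := Nat.mul_le_mul_left _ (by omega)
      omega
    have h7 : 7 ≤ m - 1 := by
      by_contra h
      have : 15 * f * (m - 1) ≤ 15 * f * 6 := Nat.mul_le_mul_left _ (by omega)
      omega
    have hn : m = 8 ∨ m = 9 := by omega
    rcases hb' with rfl | ⟨i', hi1', him', rfl⟩
    · have e2 := eq_twentyfour h24 (Nat.mul_pos hk (by omega)) ht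
      have h8 : k * (2 * m) = 2 * (k * m) := by ring
      omega
    · have e2 := eq_twentyfour h24 (Nat.mul_pos hk (by omega)) ((Nat.mul_le_mul_left k (by omega)).trans ht)
      rcases hn with rfl | rfl <;> interval_cases i' <;> omega
  | G2 => exfalso; simp only [LT.expo, top] at *; omega
  | F4 => exfalso; simp only [LT.expo, top] at *; omega
  | E6 => exfalso; simp only [LT.expo, top] at *; omega
  | E7 =>
    exfalso
    simp only [LT.expo, top, Ex] at *
    have e2 := eq_twentyfour h24 (Nat.mul_pos hk (by omega)) ((Nat.mul_le_mul_left k (by omega)).trans htop)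
    have e1 := eq_thirty h30 (Nat.mul_pos hk (by (clear * - hb; omega))) ((Nat.mul_le_mul_left k (by omega)).trans htop)
    rcases hb with rfl | rfl | rfl | rfl | rfl | rfl | rfl <;>
      rcases hb' with rfl | rfl | rfl | rfl | rfl | rfl | rfl <;> (solve | lia | omega)
  | E8 =>
    refine ⟨rfl, ?_⟩
    simp only [LT.expo, top, Ex] at *
    have e1 := eq_thirty h30 (Nat.mul_pos hk (by (clear * - hb; omega))) ((Nat.mul_le_mul_left k (by (clear * - hb; omega))).trans htop)
    rcases hb with rfl | rfl | rfl | rfl | rfl | rfl | rfl | rfl <;> (clear * - hlo hhi e1 hf hk; omega)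
  | TE6 => exfalso; simp only [LT.expo, top] at *; omega
  | TD4 => exfalso; simp only [LT.expo, top] at *; omega
  | Sz => exfalso; simp only [LT.expo, top] at *; omega
  | Ree => exfalso; simp only [LT.expo, top] at *; omega
  | TF4 => exfalso; simp only [LT.expo, top] at *; omega

end Cfsg.Agent.H416.LieArith
end

-- part: H416/LieSize
section
/-!
# Size and `p`-part of the orders of groups of Lie type (helper416)

For `IsOrd T p k M`: `tp p M = (p ^ k) ^ T.expo` and `M < ((p ^ k) ^ T.expo) ^ 3`.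
-/

set_option autoImplicit false

namespace Cfsg.Agent.H416.LieArith

open Cfsg.Agent.H437 Finset Cfsg.Agent.OrdCrit Cfsg.Agent.H416.Arith

theorem cof_lt {T : _root_.Cfsg.Agent.H437.LT} {p k : ℕ} (hp : p.Prime) (hk : k ≠ 0) (hv : T.Valid p k) :
    T.cof (p ^ k) < (p ^ k) ^ (2 * T.expo) := by
  have hq : 2 ≤ p ^ k := two_le hp hk rfl
  generalize hqq : p ^ k = q at hq
  have hs : ∀ n, q ^ n - 1 ≤ q ^ n := fun n => Nat.sub_le _ _
  have hpl : ∀ n, 1 ≤ n → q ^ n + 1 ≤ q ^ (n + 1) := by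
    intro n hn
    have : 1 ≤ q ^ n := Nat.one_le_pow _ _ (by omega)
    rw [pow_succ]; nlinarith only [hq, this]
  cases T with
  | A n =>
    obtain ⟨m, rfl⟩ := Nat.exists_eq_add_of_le' hv.1
    refine lt_of_lt_of_eq (lin_lt (q := q) (n := m + 1) hq (by omega)) ?_
    congr 1
    show (m + 1 + 1) * (m + 1) = 2 * ((m + 2) * (m + 2 - 1) / 2)
    rw [Nat.mul_div_cancel' (Nat.even_mul_pred_self (m + 2)).two_dvd]
    rfl
  | U n =>
    obtain ⟨m, rfl⟩ := Nat.exists_eq_add_of_le' hv.1
    have h := uni_lt (q := q) (n := m + 2) hq (by omega)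
    have e : ∏ i ∈ range (m + 2), (if Even (i + 1) then q ^ (i + 1 + 1) + 1 else q ^ (i + 1 + 1) - 1) =
        LT.cof (.U (m + 3)) q := by
      refine prod_congr rfl fun i _ => ?_
      rcases Nat.even_or_odd i with hi | hi
      · rw [if_pos hi, if_neg (by rw [Nat.even_add_one, not_not]; exact hi)]
      · rw [if_neg (Nat.not_even_iff_odd.2 hi), if_pos hi.add_one]
    rw [e] at h
    refine lt_of_lt_of_eq h ?_
    congr 1
    show (m + 2 + 1) * (m + 2) = 2 * ((m + 3) * (m + 3 - 1) / 2)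
    rw [Nat.mul_div_cancel' (Nat.even_mul_pred_self (m + 3)).two_dvd]
    rfl
  | C m =>
    have hm : 2 ≤ m := hv.1
    refine (prod_lt (q := q) (m := m) hq (by omega)).trans_le (Nat.pow_le_pow_right (by omega) ?_)
    show m * (m + 1) ≤ 2 * m ^ 2
    nlinarith only []
  | P m =>
    have hm : 4 ≤ m := hv
    have h2 : (q ^ m - 1) * ∏ i ∈ range (m - 1), (q ^ (2 * (i + 1)) - 1) < q ^ m * q ^ ((m - 1) * (m - 1 + 1)) := by
      have hqm : 0 < q ^ m := pow_pos (by omega) _
      calc _ ≤ (q ^ m - 1) * q ^ ((m - 1) * (m - 1 + 1)) := Nat.mul_le_mul_left _ (prod_le (m - 1))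
        _ < _ := Nat.mul_lt_mul_of_pos_right (by omega) (pow_pos (by omega) _)
    refine h2.trans_le ?_
    rw [← pow_add]
    apply Nat.pow_le_pow_right (by omega)
    show m + (m - 1) * (m - 1 + 1) ≤ 2 * (m * (m - 1))
    obtain ⟨j, rfl⟩ := Nat.exists_eq_add_of_le' hm
    have : j + 4 - 1 = j + 3 := by omega
    rw [this]
    nlinarith only []
  | M m =>
    have hm : 4 ≤ m := hv
    have h2 : (q ^ m + 1) * ∏ i ∈ range (m - 1), (q ^ (2 * (i + 1)) - 1) ≤
        q ^ (m + 1) * q ^ ((m - 1) * (m - 1 + 1)) := Nat.mul_le_mul (hpl m (by omega)) (prod_le (m - 1))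
    refine h2.trans_lt ?_
    rw [← pow_add]
    apply Nat.pow_lt_pow_right (by omega)
    show m + 1 + (m - 1) * (m - 1 + 1) < 2 * (m * (m - 1))
    obtain ⟨j, rfl⟩ := Nat.exists_eq_add_of_le' hm
    have : j + 4 - 1 = j + 3 := by omega
    rw [this]
    nlinarith only []
  | G2 =>
    calc _ ≤ q ^ 2 * q ^ 6 := Nat.mul_le_mul (hs _) (hs _)
      _ = q ^ 8 := by ring
      _ < q ^ 12 := Nat.pow_lt_pow_right (by omega) (by norm_num)
  | F4 =>
    calc _ ≤ q ^ 2 * q ^ 6 * q ^ 8 * q ^ 12 :=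
        Nat.mul_le_mul (Nat.mul_le_mul (Nat.mul_le_mul (hs _) (hs _)) (hs _)) (hs _)
      _ = q ^ 28 := by ring
      _ < q ^ 48 := Nat.pow_lt_pow_right (by omega) (by norm_num)
  | E6 =>
    calc _ ≤ q ^ 2 * q ^ 5 * q ^ 6 * q ^ 8 * q ^ 9 * q ^ 12 :=
        Nat.mul_le_mul (Nat.mul_le_mul (Nat.mul_le_mul (Nat.mul_le_mul (Nat.mul_le_mul (hs _) (hs _)) (hs _)) (hs _))
          (hs _)) (hs _)
      _ = q ^ 42 := by ring
      _ < q ^ 72 := Nat.pow_lt_pow_right (by omega) (by norm_num)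
  | E7 =>
    calc _ ≤ q ^ 2 * q ^ 6 * q ^ 8 * q ^ 10 * q ^ 12 * q ^ 14 * q ^ 18 :=
        Nat.mul_le_mul (Nat.mul_le_mul (Nat.mul_le_mul (Nat.mul_le_mul (Nat.mul_le_mul (Nat.mul_le_mul (hs _) (hs _))
          (hs _)) (hs _)) (hs _)) (hs _)) (hs _)
      _ = q ^ 70 := by ring
      _ < q ^ 126 := Nat.pow_lt_pow_right (by omega) (by norm_num)
  | E8 =>
    calc _ ≤ q ^ 2 * q ^ 8 * q ^ 12 * q ^ 14 * q ^ 18 * q ^ 20 * q ^ 24 * q ^ 30 :=
        Nat.mul_le_mul (Nat.mul_le_mul (Nat.mul_le_mul (Nat.mul_le_mul (Nat.mul_le_mul (Nat.mul_le_mul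
          (Nat.mul_le_mul (hs _) (hs _)) (hs _)) (hs _)) (hs _)) (hs _)) (hs _)) (hs _)
      _ = q ^ 128 := by ring
      _ < q ^ 240 := Nat.pow_lt_pow_right (by omega) (by norm_num)
  | TE6 =>
    calc _ ≤ q ^ 2 * q ^ 6 * q ^ 6 * q ^ 8 * q ^ 10 * q ^ 12 :=
        Nat.mul_le_mul (Nat.mul_le_mul (Nat.mul_le_mul (Nat.mul_le_mul (Nat.mul_le_mul (hs _) (hpl 5 (by norm_num)))
          (hs _)) (hs _)) (hpl 9 (by norm_num))) (hs _)
      _ = q ^ 44 := by ring
      _ < q ^ 72 := Nat.pow_lt_pow_right (by omega) (by norm_num)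
  | TD4 =>
    have h8 : q ^ 8 + q ^ 4 + 1 ≤ q ^ 10 := by
      have h4 : 1 ≤ q ^ 4 := Nat.one_le_pow _ _ (by omega)
      have e8 : q ^ 8 = q ^ 4 * q ^ 4 := by ring
      have e10 : q ^ 10 = q ^ 4 * q ^ 4 * (q * q) := by ring
      rw [e8, e10]
      have hqq : 4 ≤ q * q := Nat.mul_le_mul hq hq
      nlinarith only [h4, hqq]
    calc _ ≤ q ^ 2 * q ^ 6 * q ^ 10 := Nat.mul_le_mul (Nat.mul_le_mul (hs _) (hs _)) h8
      _ = q ^ 18 := by ring
      _ < q ^ 24 := Nat.pow_lt_pow_right (by omega) (by norm_num)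
  | Sz =>
    have h1 : q - 1 < q := by omega
    calc (q - 1) * (q ^ 2 + 1) < q * q ^ 3 :=
          Nat.mul_lt_mul_of_lt_of_le h1 (hpl 2 (by norm_num)) (pow_pos (by omega) _)
      _ = q ^ 4 := by ring
  | Ree =>
    have h1 : q - 1 ≤ q := by omega
    calc (q - 1) * (q ^ 3 + 1) ≤ q * q ^ 4 := Nat.mul_le_mul h1 (hpl 3 (by norm_num))
      _ = q ^ 5 := by ring
      _ < q ^ 6 := Nat.pow_lt_pow_right (by omega) (by norm_num)
  | TF4 =>
    have h1 : q - 1 ≤ q := by omega
    calc (q - 1) * (q ^ 3 + 1) * (q ^ 4 - 1) * (q ^ 6 + 1) ≤ q * q ^ 4 * q ^ 4 * q ^ 7 :=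
          Nat.mul_le_mul (Nat.mul_le_mul (Nat.mul_le_mul h1 (hpl 3 (by norm_num))) (hs _)) (hpl 6 (by norm_num))
      _ = q ^ 16 := by ring
      _ < q ^ 24 := Nat.pow_lt_pow_right (by omega) (by norm_num)

theorem ex_pos {T : _root_.Cfsg.Agent.H437.LT} {p k b : ℕ} (hv : T.Valid p k) (hb : Ex T b) : 0 < b := by
  cases T with
  | A n => exact lt_of_lt_of_le (by norm_num) hb.1
  | U n => obtain ⟨i, h1, h2, ⟨-, rfl⟩ | ⟨-, rfl⟩⟩ := hb <;> omega
  | C m => obtain ⟨i, h1, h2, rfl⟩ := hb; omega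
  | P m =>
    have hm : 4 ≤ m := hv
    obtain rfl | ⟨i, h1, h2, rfl⟩ := hb <;> omega
  | M m =>
    have hm : 4 ≤ m := hv
    obtain rfl | ⟨i, h1, h2, rfl⟩ := hb <;> omega
  | G2 => simp only [Ex] at hb; omega
  | F4 => simp only [Ex] at hb; omega
  | E6 => simp only [Ex] at hb; omega
  | E7 => simp only [Ex] at hb; omega
  | E8 => simp only [Ex] at hb; omega
  | TE6 => simp only [Ex] at hb; omega
  | TD4 => simp only [Ex] at hb; omega
  | Sz => simp only [Ex] at hb; omega
  | Ree => simp only [Ex] at hb; omega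
  | TF4 => simp only [Ex] at hb; omega

theorem not_dvd_sub {p j : ℕ} (hp : p.Prime) (hj : 0 < j) : ¬ p ∣ p ^ j - 1 := by
  intro h
  have h2 : p ∣ p ^ j := dvd_pow_self p hj.ne'
  have h3 : 1 ≤ p ^ j := Nat.one_le_pow _ _ hp.pos
  have h4 := Nat.dvd_sub h2 h
  rw [Nat.sub_sub_self h3] at h4
  exact hp.one_lt.ne' (Nat.dvd_one.1 h4)

theorem not_dvd_add {p j : ℕ} (hp : p.Prime) (hj : 0 < j) : ¬ p ∣ p ^ j + 1 := by
  intro h
  have h2 : p ∣ p ^ j := dvd_pow_self p hj.ne'
  exact hp.one_lt.ne' (Nat.dvd_one.1 ((Nat.dvd_add_right h2).1 h))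

theorem not_dvd_cof {T : _root_.Cfsg.Agent.H437.LT} {p k : ℕ} (hp : p.Prime) (hk : k ≠ 0) (hv : T.Valid p k) : ¬ p ∣ T.cof (p ^ k) := by
  intro h
  obtain ⟨b, hb, h1⟩ := exists_ex hp hp h
  exact not_dvd_sub hp (Nat.mul_pos (Nat.pos_of_ne_zero hk) (ex_pos hv hb)) h1

theorem not_dvd_dd {T : _root_.Cfsg.Agent.H437.LT} {p k : ℕ} (hp : p.Prime) (hk : k ≠ 0) (hv : T.Valid p k) : ¬ p ∣ T.dd (p ^ k) := by
  have hk0 : 0 < k := Nat.pos_of_ne_zero hk
  have h1 : ¬ p ∣ 1 := fun h => hp.one_lt.ne' (Nat.dvd_one.1 h)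
  intro h
  cases T with
  | A n => exact not_dvd_sub hp hk0 (h.trans (Nat.gcd_dvd_right _ _))
  | U n => exact not_dvd_add hp hk0 (h.trans (Nat.gcd_dvd_right _ _))
  | C m => exact not_dvd_sub hp hk0 (h.trans (Nat.gcd_dvd_right _ _))
  | P m =>
    have hm : 4 ≤ m := hv
    have h2 := h.trans (Nat.gcd_dvd_right 4 ((p ^ k) ^ m - 1))
    rw [← pow_mul] at h2
    exact not_dvd_sub hp (Nat.mul_pos hk0 (by omega)) h2
  | M m =>
    have hm : 4 ≤ m := hv
    have h2 := h.trans (Nat.gcd_dvd_right 4 ((p ^ k) ^ m + 1))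
    rw [← pow_mul] at h2
    exact not_dvd_add hp (Nat.mul_pos hk0 (by omega)) h2
  | G2 => exact h1 h
  | F4 => exact h1 h
  | E6 => exact not_dvd_sub hp hk0 (h.trans (Nat.gcd_dvd_right _ _))
  | E7 => exact not_dvd_sub hp hk0 (h.trans (Nat.gcd_dvd_right _ _))
  | E8 => exact h1 h
  | TE6 => exact not_dvd_add hp hk0 (h.trans (Nat.gcd_dvd_right _ _))
  | TD4 => exact h1 h
  | Sz => exact h1 h
  | Ree => exact h1 h
  | TF4 => exact h1 h

section

variable {T : _root_.Cfsg.Agent.H437.LT} {p k M : ℕ} (hO : IsOrd T p k M)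
include hO

theorem cof_ne_zero : T.cof (p ^ k) ≠ 0 := by
  intro h
  exact not_dvd_cof hO.prime hO.f_ne hO.valid (h ▸ dvd_zero p)

theorem dd_ne_zero : T.dd (p ^ k) ≠ 0 := by
  intro h
  exact not_dvd_dd hO.prime hO.f_ne hO.valid (h ▸ dvd_zero p)

theorem ord_ne_zero : M ≠ 0 := by
  rintro rfl
  have h := hO.eq
  rw [mul_zero] at h
  rcases Nat.mul_eq_zero.1 h.symm with h1 | h1
  · exact pow_ne_zero _ (pow_ne_zero _ hO.prime.ne_zero) h1
  · exact cof_ne_zero hO h1

/-- the `p`-part of the order -/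
theorem tp_ord : tp p M = (p ^ k) ^ T.expo := by
  have h := congrArg (tp p) hO.eq
  rw [tp_mul p (dd_ne_zero hO) (ord_ne_zero hO),
    tp_mul p (pow_ne_zero _ (pow_ne_zero _ hO.prime.ne_zero)) (cof_ne_zero hO),
    tp_eq_one (not_dvd_dd hO.prime hO.f_ne hO.valid), tp_eq_one (not_dvd_cof hO.prime hO.f_ne hO.valid),
    one_mul, mul_one, ← pow_mul] at h
  rw [h, ← pow_mul]
  unfold tp
  rw [hO.prime.factorization_pow]
  simp

/-- `M < (|M|_p)^3` -/
theorem ord_lt : M < ((p ^ k) ^ T.expo) ^ 3 := by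
  have h0 : 0 < (p ^ k) ^ T.expo := pow_pos (pow_pos hO.prime.pos _) _
  calc M ≤ T.dd (p ^ k) * M := Nat.le_mul_of_pos_left _ (Nat.pos_of_ne_zero (dd_ne_zero hO))
    _ = (p ^ k) ^ T.expo * T.cof (p ^ k) := hO.eq
    _ < (p ^ k) ^ T.expo * (p ^ k) ^ (2 * T.expo) :=
        Nat.mul_lt_mul_of_pos_left (cof_lt hO.prime hO.f_ne hO.valid) h0
    _ = _ := by
        generalize p ^ k = u
        rw [← pow_add, ← pow_mul]
        congr 1
        ring

theorem ord_lt_tp : M < tp p M ^ 3 := by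
  rw [tp_ord hO]; exact ord_lt hO

end

end Cfsg.Agent.H416.LieArith
end

-- part: H416/E8Main
section
/-!
# Groups with the order and the isolated tori of `E₈(q)` (helper416)
-/

set_option autoImplicit false

namespace Cfsg.Agent.H416.E8Main

open Cfsg.Agent.H416.Iso Cfsg.Agent.H416.Arith Cfsg.Agent.H416.LieArith Cfsg.Agent.H437 Cfsg.Agent.H363.Frat

universe u

section alt

theorem exists_alt {n r : ℕ} (hr : r.Prime) (hr2 : r ≠ 2) (h : r + 4 ≤ n) :
    ∃ g : alternatingGroup (Fin n), orderOf g = r * 2 := by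
  obtain ⟨g, hg⟩ := (Equiv.Perm.exists_with_cycleType_iff (α := Fin n) (m := {r, 2, 2})).2 (by
    constructor
    · simp only [_root_.Multiset.insert_eq_cons, _root_.Multiset.sum_cons, _root_.Multiset.sum_singleton, _root_.Nat.reduceAdd, _root_.Fintype.card_fin]
      omega
    · intro a ha
      simp only [Multiset.insert_eq_cons, Multiset.mem_cons, Multiset.mem_singleton] at ha
      have := hr.two_le
      omega)
  have hodd : Odd r := hr.odd_of_ne_two hr2
  have hs : g ∈ alternatingGroup (Fin n) := by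
    rw [Equiv.Perm.mem_alternatingGroup, Equiv.Perm.sign_of_cycleType, hg]
    have : Even (Multiset.sum {r, 2, 2} + Multiset.card ({r, 2, 2} : Multiset ℕ)) := by
      simp only [Multiset.insert_eq_cons, Multiset.sum_cons, Multiset.sum_singleton, Multiset.card_cons,
        Multiset.card_singleton]
      obtain ⟨k, rfl⟩ := hodd
      exact ⟨k + 4, by ring⟩
    exact this.neg_one_pow
  refine ⟨⟨g, hs⟩, ?_⟩
  rw [Subgroup.orderOf_mk, ← Equiv.Perm.lcm_cycleType, hg]
  simp only [Multiset.insert_eq_cons, Multiset.lcm_cons, Multiset.lcm_singleton]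
  have h2 : Nat.Coprime r 2 := (Nat.coprime_primes hr Nat.prime_two).2 hr2
  simp only [normalize_eq]
  show Nat.lcm r (Nat.lcm 2 2) = r * 2
  rw [Nat.lcm_self]
  exact h2.lcm_eq_mul

theorem le_of_dvd_card {n r : ℕ} (hr : r.Prime) (h : r ∣ Nat.card (alternatingGroup (Fin n))) : r ≤ n := by
  have h1 := h.trans (Subgroup.card_subgroup_dvd_card (alternatingGroup (Fin n)))
  rw [Nat.card_eq_fintype_card, Fintype.card_perm, Fintype.card_fin] at h1
  exact hr.dvd_factorial.1 h1

theorem no_alt {n : ℕ} {r : Fin 3 → ℕ} (hr : ∀ i, (r i).Prime) (h2 : ∀ i, r i ≠ 2)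
    (hd : ∀ i, r i ∣ Nat.card (alternatingGroup (Fin n))) (hne : ∀ i j, i ≠ j → r i ≠ r j)
    (hn : ∀ i, NonAdj (alternatingGroup (Fin n)) (r i) 2) : False := by
  have key : ∀ i, r i ≤ n ∧ n ≤ r i + 3 ∧ r i % 2 = 1 := by
    intro i
    refine ⟨le_of_dvd_card (hr i) (hd i), ?_, Nat.odd_iff.1 ((hr i).odd_of_ne_two (h2 i))⟩
    by_contra h
    obtain ⟨g, hg⟩ := exists_alt (hr i) (h2 i) (show r i + 4 ≤ n by omega)
    exact hn i g hg
  have h0 := key 0
  have h1 := key 1
  have h2 := key 2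
  have h01 := hne 0 1 (by decide)
  have h02 := hne 0 2 (by decide)
  have h12 := hne 1 2 (by decide)
  (clear * - h0 h1 h2 h01 h02 h12; solve | lia | omega)

end alt

theorem dd_bound : ∀ d ∈ dd, 0 < d ∧ d ≤ 30 := by decide

section core

variable {p f : ℕ} (hp : p.Prime) (hf : 0 < f)
include hp hf

theorem two_le_q : 2 ≤ p ^ f := hp.two_le.trans (Nat.le_self_pow hf.ne' p)

omit hf in
theorem dvd_q {t : ℕ} (ht : t.Prime) (h : t ∣ p ^ f) : t = p :=
  (Nat.prime_dvd_prime_iff_eq ht hp).1 (ht.dvd_of_dvd_pow h)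

/-- primitive primes of `p ^ (ix i * f) - 1` divide `mm q i` -/
theorem prim_dvd_mm {i : Fin 3} {r : ℕ} (hr : Prim p (ix i * f) r) : r ∣ mm (p ^ f) i := by
  have h1 := (hr.2 _).2 (dvd_refl (ix i * f))
  rw [Nat.mul_comm, pow_mul, ← prod_c (ix_pos i) (two_le_q hp hf)] at h1
  obtain ⟨j, hj, h2⟩ := (Prime.dvd_finsetProd_iff hr.1.prime _).1 h1
  rw [Nat.mem_divisors] at hj
  have hj0 : 0 < j := Nat.pos_of_dvd_of_pos hj.1 (ix_pos i)
  have h3 := h2.trans (c_dvd hj0 (two_le_q hp hf) (dvd_refl j))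
  rw [← pow_mul, hr.2, Nat.mul_comm f j] at h3
  have h4 : ix i ∣ j := Nat.dvd_of_mul_dvd_mul_right hf h3
  rw [mm_eq, Nat.dvd_antisymm h4 hj.1]
  exact h2

theorem exists_prim_mm (i : Fin 3) : ∃ r, Prim p (ix i * f) r ∧ r ∣ mm (p ^ f) i := by
  obtain ⟨r, hr⟩ := exists_prim hp (e := ix i * f) (by
    have : 15 ≤ ix i := by fin_cases i <;> decide
    nlinarith)
  exact ⟨r, hr, prim_dvd_mm hp hf hr⟩

theorem dvd_of_mm {a : ℕ} (h : ∀ i, mm (p ^ f) i ∣ p ^ a - 1) : 120 * f ∣ a := by
  have key : ∀ i, ix i * f ∣ a := by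
    intro i
    obtain ⟨r, hr, h1⟩ := exists_prim_mm hp hf i
    exact (hr.2 a).1 (h1.trans (h i))
  have h1 : 24 * f ∣ a := key 1
  have h2 : 30 * f ∣ a := key 2
  have h3 := Nat.lcm_dvd h1 h2
  rw [Nat.lcm_mul_right] at h3
  exact h3

variable {G : Type u} [Group G] [Finite G] (hG : Nat.card G = N (p ^ f)) (h : Hyp G (mm (p ^ f)))
include hG h

theorem core_prime {L : Subgroup G} [L.Normal] (hL : ∀ i, (mm (p ^ f) i).Coprime (Nat.card L)) {t : ℕ} (ht : t.Prime)
    (htL : t ∣ Nat.card L) : t = p := by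
  by_contra hne
  have hq := two_le_q hp hf
  have htq : ¬ t ∣ p ^ f := fun h => hne (dvd_q hp ht h)
  have htm : ∀ i, ¬ t ∣ mm (p ^ f) i := by
    intro i hi
    have h1 : t ∣ Nat.gcd (mm (p ^ f) i) (Nat.card L) := Nat.dvd_gcd hi htL
    rw [hL i] at h1
    exact ht.one_lt.ne' (Nat.dvd_one.1 h1)
  have h1 : ∀ i, mm (p ^ f) i ∣ tp t (Nat.card L) - 1 := fun i => h.normal_dvd L (hL i) ht (htm i)
  have h2 : PP (p ^ f) ∣ tp t (Nat.card L) - 1 := by
    apply Nat.Coprime.mul_dvd_of_dvd_of_dvd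
    · apply Nat.Coprime.mul_left
      · exact cop_mm hq (by decide)
      · exact cop_mm hq (by decide)
    · exact (cop_mm hq (by decide)).mul_dvd_of_dvd_of_dvd (h1 0) (h1 1)
    · exact h1 2
  have h3 : 1 < tp t (Nat.card L) := by
    unfold tp
    exact Nat.one_lt_pow (ht.factorization_pos_of_dvd Nat.card_pos.ne' htL).ne' ht.one_lt
  have h4 : tp t (Nat.card L) ≤ tp t (N (p ^ f)) := by
    rw [← hG]
    unfold tp
    apply Nat.pow_le_pow_right ht.pos
    exact (Nat.factorization_le_iff_dvd Nat.card_pos.ne' Nat.card_pos.ne').2 (Subgroup.card_subgroup_dvd_card L) t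
  have h5 := tp_N_lt ht hq htq
  have h6 := Nat.le_of_dvd (by omega) h2
  omega

theorem core_card {L : Subgroup G} [L.Normal] (hL : ∀ i, (mm (p ^ f) i).Coprime (Nat.card L)) :
    Nat.card L = 1 ∨ Nat.card L = p ^ (120 * f) := by
  have hq := two_le_q hp hf
  set a := (Nat.card L).factorization p with ha
  have h1 : Nat.card L = p ^ a := by
    rw [ha]
    exact (Nat.eq_prime_pow_of_unique_prime_dvd Nat.card_pos.ne' fun ht htL => core_prime hp hf hG h hL ht htL) ▸ by
      rw [Nat.eq_prime_pow_of_unique_prime_dvd (p := p) Nat.card_pos.ne' fun ht htL => core_prime hp hf hG h hL ht htL]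
      simp only [Nat.Prime.factorization_pow hp, _root_.Finsupp.single_eq_same]
  have hpm : ∀ i, ¬ p ∣ mm (p ^ f) i := fun i hi => base_mm hq hp hi (dvd_pow_self p hf.ne')
  have h2 : 120 * f ∣ a := dvd_of_mm hp hf fun i => h.normal_dvd L (hL i) hp (hpm i)
  have h3 : a ≤ 120 * f := by
    have h4 : p ^ a ∣ N (p ^ f) := by
      rw [← h1, ← hG]; exact Subgroup.card_subgroup_dvd_card L
    have h5 : (p ^ a).Coprime (N' (p ^ f)) := by
      apply Nat.Coprime.pow_left
      rw [hp.coprime_iff_not_dvd]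
      intro h6
      obtain ⟨d, hd, h7⟩ := (Prime.dvd_finsetProd_iff hp.prime _).1 h6
      rw [← pow_mul] at h7
      exact not_dvd_sub hp (Nat.mul_pos hf (dd_bound d hd).1) h7
    have h6 : p ^ a ∣ (p ^ f) ^ 120 := h5.dvd_of_dvd_mul_right h4
    rw [← pow_mul] at h6
    have := (Nat.pow_dvd_pow_iff_le_right hp.one_lt).1 h6
    omega
  rcases Nat.eq_zero_or_pos a with h4 | h4
  · left; rw [h1, h4, pow_zero]
  · right
    have := Nat.le_of_dvd h4 h2
    rw [h1]
    congr 1
    omega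

end core

/-- **A group with the order and the isolated tori of `E₈(q)` is simple of type `E₈` over the field with `q`
elements.** -/
theorem main {p f : ℕ} (hp : p.Prime) (hf : 0 < f) {G : Type u} [Group G] [Finite G]
    (hG : Nat.card G = N (p ^ f)) (h : Hyp G (mm (p ^ f)))
    (P : (Q : Type u) → [Group Q] → ℕ → Prop)
    (hP : ∀ (Q : Type u) [Group Q] (q : ℕ), P Q q → Nat.card Q = N q)
    (hev : ∀ (Q : Type u) [Group Q] [Finite Q], IsSimpleGroup Q → ¬ IsMulCommutative Q → 2 ∣ Nat.card Q)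
    (hE : ∀ (Q : Type u) [Group Q] [Finite Q], IsSimpleGroup Q → ¬ IsMulCommutative Q →
      ∀ r : ℕ, r.Prime → r ≠ 2 → ¬ r ∣ Nat.card Q → ∀ x : MulAut Q, x ^ r = 1 → ∃ g : Q, orderOf g = 2 ∧ x g = g)
    (hS : ∀ (Q : Type u) [Group Q] [Finite Q], IsSimpleGroup Q → ¬ IsMulCommutative Q →
      (∃ n, 5 ≤ n ∧ Nonempty (Q ≃* alternatingGroup (Fin n))) ∨
      (∃ T p k, IsOrd T p k (Nat.card Q) ∧ (T = .E8 → P Q (p ^ k))) ∨
      (∀ r : ℕ, r.Prime → r ∣ Nat.card Q → r ≤ 71)) :
    ∃ (Q : Type u) (_ : Group Q), Nonempty (G ≃* Q) ∧ P Q (p ^ f) := by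
  have hq : 2 ≤ p ^ f := two_le_q hp hf
  obtain ⟨L, hLn, hLc, hred⟩ := exists_core G (mm (p ^ f))
  have hQ := h.quotient L hLc
  have hcQ : Nat.card G = Nat.card (G ⧸ L) * Nat.card L := Subgroup.card_eq_card_quotient_mul_card_subgroup L
  have hLcard := core_card hp hf hG h hLc
  have hQge : (p ^ f) ^ 127 ≤ Nat.card (G ⧸ L) := by
    have h1 : Nat.card L ≤ (p ^ f) ^ 120 := by
      rw [← pow_mul, Nat.mul_comm f]
      rcases hLcard with h | h
      · rw [h]; exact Nat.one_le_pow _ _ hp.pos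
      · rw [h]
    have h2 : (p ^ f) ^ 120 * N' (p ^ f) = Nat.card (G ⧸ L) * Nat.card L := by
      rw [← hcQ, hG]; rfl
    have h3 : (p ^ f) ^ 120 * N' (p ^ f) ≤ (p ^ f) ^ 120 * Nat.card (G ⧸ L) := by
      rw [h2, Nat.mul_comm ((p ^ f) ^ 120)]
      exact Nat.mul_le_mul_left _ h1
    exact (N'_ge hq).trans (Nat.le_of_mul_le_mul_left h3 (pow_pos (by omega) _))
  have hnt : Nontrivial (G ⧸ L) := by
    rw [← Finite.one_lt_card_iff_nontrivial]
    exact lt_of_lt_of_le (Nat.one_lt_pow (by norm_num) (by omega)) hQge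
  obtain ⟨M, hMn, hM1, hmin⟩ := exists_minimal hnt
  obtain ⟨hMs, hMc, hM2⟩ := hQ.simple_of_minimal hred (fun T hT hTc => hev T hT hTc) M hM1 hmin
  have hall : ∀ {i : Fin 3} {r : ℕ}, r.Prime → r ∣ mm (p ^ f) i → r ∣ Nat.card M := fun hr hrm =>
    hQ.dvd_card M (hE M hMs hMc) hr hrm
  have hidx : M.index < (p ^ f) ^ 16 := by
    obtain ⟨r, hr, hrm⟩ := exists_prim_mm hp hf 1
    have h1 := hQ.index_lt M hr.1 hrm (hall hr.1 hrm)
    refine h1.trans_le ?_
    rw [show 16 = 8 * 2 by norm_num, pow_mul]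
    exact Nat.pow_le_pow_left (mm1_lt hq).le 2
  have hcM : Nat.card M * M.index = Nat.card (G ⧸ L) := Subgroup.card_mul_index M
  have hcM0 : Nat.card M ≠ 0 := Nat.card_pos.ne'
  have hMge : (p ^ f) ^ 111 < Nat.card M := by
    have h1 : (p ^ f) ^ 111 * (p ^ f) ^ 16 < Nat.card M * (p ^ f) ^ 16 := by
      calc (p ^ f) ^ 111 * (p ^ f) ^ 16 = (p ^ f) ^ 127 := by rw [← pow_add]
        _ ≤ Nat.card (G ⧸ L) := hQge
        _ = Nat.card M * M.index := hcM.symm
        _ < _ := Nat.mul_lt_mul_of_pos_left hidx Nat.card_pos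
    exact Nat.lt_of_mul_lt_mul_right h1
  have hMQ : Nat.card M ∣ Nat.card (G ⧸ L) := Subgroup.card_subgroup_dvd_card M
  have hMN : Nat.card M ∣ N (p ^ f) := by
    rw [← hG, hcQ]; exact hMQ.mul_right _
  have hnonadj : ∀ i r, r.Prime → r ∣ mm (p ^ f) i → NonAdj M r 2 := by
    intro i r hr hrm
    have h2 : ¬ 2 ∣ mm (p ^ f) i := fun h => prime_mm h (Or.inl rfl)
    exact (hQ.isol i r 2 hr Nat.prime_two hrm h2).subgroup M
  rcases hS M hMs hMc with ⟨n, -, ⟨e⟩⟩ | ⟨T, t, k, hO, hT⟩ | h71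
  · exfalso
    choose r hr hrm using fun i : Fin 3 => exists_prim_mm hp hf i
    refine no_alt (n := n) (r := r) (fun i => (hr i).1) (fun i h => prime_mm (hrm i) (Or.inl h)) ?_ ?_ ?_
    · intro i
      rw [← Nat.card_congr e.toEquiv]
      exact hall (hr i).1 (hrm i)
    · intro i j hij hrr
      have h1 : r i ∣ Nat.gcd (mm (p ^ f) i) (mm (p ^ f) j) := Nat.dvd_gcd (hrm i) (hrr ▸ hrm j)
      rw [cop_mm hq hij] at h1
      exact (hr i).1.one_lt.ne' (Nat.dvd_one.1 h1)
    · intro i
      exact (hnonadj i (r i) (hr i).1 (hrm i)).of_injective e.symm.toMonoidHom e.symm.injective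
  · have htple : tp t (Nat.card M) ≤ tp t (N (p ^ f)) := by
      unfold tp
      apply Nat.pow_le_pow_right hO.prime.pos
      exact (Nat.factorization_le_iff_dvd hcM0 (N_pos hq).ne').2 hMN t
    have hsz := ord_lt_tp hO
    by_cases htp : t = p
    · subst htp
      rcases hLcard with hL1 | hL1
      · -- `L = 1`
        have hLbot : L = ⊥ := Subgroup.card_eq_one.1 hL1
        rw [hL1, mul_one] at hcQ
        have hpN : tp t (N (t ^ f)) = t ^ (120 * f) := by
          unfold N
          rw [tp_mul t (pow_ne_zero _ (by omega)) (N'_pos hq).ne']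
          have h1 : ¬ t ∣ N' (t ^ f) := by
            intro h6
            obtain ⟨d, hd, h7⟩ := (Prime.dvd_finsetProd_iff hp.prime _).1 h6
            rw [← pow_mul] at h7
            exact not_dvd_sub hp (Nat.mul_pos hf (dd_bound d hd).1) h7
          rw [tp_eq_one h1, mul_one, ← pow_mul]
          unfold tp
          rw [hp.factorization_pow]
          simp [Nat.mul_comm]
        have htpM := tp_ord hO
        rw [← pow_mul] at htpM
        have hhi : k * T.expo ≤ 120 * f := by
          rw [htpM, hpN] at htple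
          exact (Nat.pow_le_pow_iff_right hp.one_lt).1 htple
        have hlo : 104 * f < k * T.expo := by
          have h1 : tp t (Nat.card M * M.index) = t ^ (120 * f) := by rw [hcM, ← hcQ, hG, hpN]
          have hi0 : M.index ≠ 0 := Subgroup.index_ne_zero_of_finite
          rw [tp_mul t hcM0 hi0, htpM] at h1
          have h2 : tp t M.index ≤ M.index := Nat.le_of_dvd (Nat.pos_of_ne_zero hi0) (tp_dvd t _)
          have h3 : t ^ (120 * f) < t ^ (k * T.expo + 16 * f) := by
            rw [← h1, pow_add]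
            apply Nat.mul_lt_mul_of_pos_left _ (pow_pos hp.pos _)
            refine (h2.trans_lt hidx).trans_le ?_
            rw [← pow_mul, Nat.mul_comm f]
          have := (Nat.pow_lt_pow_iff_right hp.one_lt).1 h3
          omega
        have hk : 0 < k := Nat.pos_of_ne_zero hO.f_ne
        have htop : k * top T ≤ 30 * f := by
          by_cases h7 : 7 ≤ k * top T
          · obtain ⟨r, hr⟩ := exists_prim hp h7
            have h1 := (top_dvd' hO h7 hr).trans hMN
            rcases (Nat.Prime.dvd_mul hr.1).1 h1 with h2 | h2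
            · exact absurd (hr.1.dvd_of_dvd_pow (hr.1.dvd_of_dvd_pow h2)) (hr.not_dvd_p (by omega) hp.one_le)
            · obtain ⟨d, hd, h3⟩ := (Prime.dvd_finsetProd_iff hr.1.prime _).1 h2
              rw [← pow_mul, hr.2] at h3
              obtain ⟨hd0, hd30⟩ := dd_bound d hd
              have h4 := Nat.le_of_dvd (Nat.mul_pos hf hd0) h3
              have h5 : f * d ≤ f * 30 := Nat.mul_le_mul_left f hd30
              omega
          · omega
        have h30 : ∃ b, Ex T b ∧ 30 * f ∣ k * b := by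
          obtain ⟨r, hr, hrm⟩ := exists_prim_mm hp hf 2
          exact exists_of_dvd hO hr (Nat.mul_pos (ix_pos 2) hf) (hall hr.1 hrm)
        have h24 : ∃ b, Ex T b ∧ 24 * f ∣ k * b := by
          obtain ⟨r, hr, hrm⟩ := exists_prim_mm hp hf 1
          exact exists_of_dvd hO hr (Nat.mul_pos (ix_pos 1) hf) (hall hr.1 hrm)
        obtain ⟨hTE, rfl⟩ := only_E8 hO hf hlo hhi htop h30 h24
        have hPM := hT hTE
        have h1 := hP M _ hPM
        have hMtop : M = ⊤ := Subgroup.eq_top_of_card_eq M (by rw [h1, ← hG, hcQ])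
        refine ⟨M, inferInstance, ⟨?_⟩, hPM⟩
        have e1 : G ≃* G ⧸ L :=
          QuotientGroup.quotientBot.symm.trans (QuotientGroup.quotientMulEquivOfEq hLbot).symm
        have e2 : M ≃* G ⧸ L := (MulEquiv.subgroupCongr hMtop).trans Subgroup.topEquiv
        exact e1.trans e2.symm
      · -- `|L| = q ^ 120`
        exfalso
        have h1 : ¬ t ∣ Nat.card M := by
          intro h2
          have h3 : t ∣ Nat.card (G ⧸ L) := h2.trans hMQ
          have h4 : Nat.card (G ⧸ L) = N' (t ^ f) := by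
            have h5 : (t ^ f) ^ 120 * N' (t ^ f) = (t ^ f) ^ 120 * Nat.card (G ⧸ L) := by
              rw [show (t ^ f) ^ 120 * N' (t ^ f) = N (t ^ f) from rfl, ← hG, hcQ, hL1, Nat.mul_comm, ← pow_mul,
                Nat.mul_comm f]
            exact (Nat.eq_of_mul_eq_mul_left (pow_pos (by omega) _) h5).symm
          rw [h4] at h3
          obtain ⟨d, hd, h7⟩ := (Prime.dvd_finsetProd_iff hp.prime _).1 h3
          rw [← pow_mul] at h7
          exact not_dvd_sub hp (Nat.mul_pos hf (dd_bound d hd).1) h7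
        rw [tp_eq_one h1, one_pow] at hsz
        omega
    · exfalso
      have h1 := tp_N_lt hO.prime hq (fun h => htp (dvd_q hp hO.prime h))
      have h2 := PP_lt hq
      have h3 : tp t (Nat.card M) ^ 3 < ((p ^ f) ^ 25) ^ 3 :=
        Nat.pow_lt_pow_left (htple.trans_lt (h1.trans h2)) (by norm_num)
      rw [← pow_mul] at h3
      have h4 : (p ^ f) ^ (25 * 3) ≤ (p ^ f) ^ 111 := Nat.pow_le_pow_right (by omega) (by norm_num)
      omega
  · exfalso
    obtain ⟨r, hr, hrm⟩ := exists_prim_mm hp hf 1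
    have h1 := h71 r hr.1 (hall hr.1 hrm)
    have h2 : 24 ∣ r - 1 := (Nat.dvd_mul_right 24 f).trans (hr.mod hp.one_le (Nat.mul_pos (ix_pos 1) hf))
    obtain ⟨c, hc⟩ := h2
    have hr2 := hr.1.two_le
    have h3 : c = 1 ∨ c = 2 := by omega
    rcases h3 with rfl | rfl
    · have : r = 25 := by omega
      rw [this] at hr
      exact absurd hr.1 (by norm_num)
    · have : r = 49 := by omega
      rw [this] at hr
      exact absurd hr.1 (by norm_num)

end Cfsg.Agent.H416.E8Main
end

private theorem dce_4aaf5667f229 : _root_.True := by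
  try have : _root_.True := by simp only [_root_.Cfsg.Agent.H416.LieArith.Ex.eq_2]
  try have : _root_.True := by simp only [_root_.Cfsg.Agent.H416.LieArith.top.eq_4]
  try have : _root_.True := by simp only [_root_.Cfsg.Agent.H437.LT.cof.eq_10]
  try have : _root_.True := by simp only [_root_.Cfsg.Agent.H416.LieArith.top.eq_8]
  try have : _root_.True := by simp only [_root_.Cfsg.Agent.H437.LT.cof.eq_4]
  try have : _root_.True := by simp only [_root_.Cfsg.Agent.H416.LieArith.top.eq_10]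
  try have : _root_.True := by simp only [_root_.Cfsg.Agent.H437.LT.cof.eq_8]
  try have : _root_.True := by simp only [_root_.Cfsg.Agent.H437.LT.expo.eq_2]
  try have : _root_.True := by simp only [_root_.Cfsg.Agent.H437.LT.expo.eq_5]
  try have : _root_.True := by simp only [_root_.Cfsg.Agent.H416.LieArith.Ex.eq_6]
  try have : _root_.True := by simp only [_root_.Cfsg.Agent.H437.LT.expo.eq_12]
  try have : _root_.True := by simp only [_root_.Cfsg.Agent.H416.LieArith.Ex.eq_8]
  try have : _root_.True := by simp only [_root_.Cfsg.Agent.H416.LieArith.Ex.eq_4]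
  try have : _root_.True := by simp only [_root_.Cfsg.Agent.H416.LieArith.Ex.eq_12]
  try have : _root_.True := by simp only [_root_.Cfsg.Agent.H437.LT.expo.eq_6]
  try have : _root_.True := by simp only [_root_.Cfsg.Agent.H437.LT.expo.eq_8]
  try have : _root_.True := by simp only [_root_.Cfsg.Agent.H437.LT.cof.eq_2]
  try have : _root_.True := by simp only [_root_.Cfsg.Agent.H437.LT.expo.eq_4]
  try have : _root_.True := by simp only [_root_.Cfsg.Agent.H416.LieArith.Ex.eq_7]
  try have : _root_.True := by simp only [_root_.Cfsg.Agent.H416.LieArith.Ex.eq_9]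
  try have : _root_.True := by simp only [_root_.Cfsg.Agent.H437.LT.cof.eq_12]
  try have : _root_.True := by simp only [_root_.Cfsg.Agent.H416.LieArith.top.eq_12]
  try have : _root_.True := by simp only [_root_.Cfsg.Agent.H437.LT.cof.eq_6]
  try have : _root_.True := by simp only [_root_.Cfsg.Agent.H416.LieArith.top.eq_14]
  try have : _root_.True := by simp only [_root_.Cfsg.Agent.H416.LieArith.Ex.eq_3]
  try have : _root_.True := by simp only [_root_.Cfsg.Agent.H416.LieArith.Ex.eq_10]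
  try have : _root_.True := by simp only [_root_.Cfsg.Agent.H416.LieArith.Ex.eq_14]
  try have : _root_.True := by simp only [_root_.Cfsg.Agent.H437.LT.expo.eq_1]
  try have : _root_.True := by simp only [_root_.Cfsg.Agent.H416.LieArith.Ex.eq_5]
  try have : _root_.True := by simp only [_root_.Cfsg.Agent.H416.LieArith.top.eq_13]
  try have : _root_.True := by simp only [_root_.Cfsg.Agent.H437.LT.cof.eq_13]
  try have : _root_.True := by simp only [_root_.Cfsg.Agent.H416.LieArith.Ex.eq_1]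
  try have : _root_.True := by simp only [_root_.Cfsg.Agent.H437.LT.expo.eq_11]
  try have : _root_.True := by simp only [_root_.Cfsg.Agent.H416.LieArith.top.eq_7]
  try have : _root_.True := by simp only [_root_.Cfsg.Agent.H416.LieArith.top.eq_9]
  try have : _root_.True := by simp only [_root_.Cfsg.Agent.H437.LT.cof.eq_15]
  try have : _root_.True := by simp only [_root_.Cfsg.Agent.H416.LieArith.Ex.eq_13]
  try have : _root_.True := by simp only [_root_.Cfsg.Agent.H437.LT.cof.eq_1]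
  try have : _root_.True := by simp only [_root_.Cfsg.Agent.H416.LieArith.top.eq_5]
  try have : _root_.True := by simp only [_root_.Cfsg.Agent.H416.LieArith.Ex.eq_11]
  try have : _root_.True := by simp only [_root_.Cfsg.Agent.H437.LT.expo.eq_13]
  try have : _root_.True := by simp only [_root_.Cfsg.Agent.H416.LieArith.top.eq_6]
  try have : _root_.True := by simp only [_root_.Cfsg.Agent.H437.LT.cof.eq_14]
  try have : _root_.True := by simp only [_root_.Cfsg.Agent.H416.LieArith.top.eq_3]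
  try have : _root_.True := by simp only [_root_.Cfsg.Agent.H437.LT.cof.eq_11]
  try have : _root_.True := by simp only [_root_.Cfsg.Agent.H437.LT.expo.eq_15]
  try have : _root_.True := by simp only [_root_.Cfsg.Agent.H437.LT.expo.eq_7]
  try have : _root_.True := by simp only [_root_.Cfsg.Agent.H437.LT.expo.eq_9]
  try have : _root_.True := by simp only [_root_.Cfsg.Agent.H437.LT.cof.eq_3]
  try have : _root_.True := by simp only [_root_.Cfsg.Agent.H416.LieArith.top.eq_11]
  try have : _root_.True := by simp only [_root_.Cfsg.Agent.H416.LieArith.Ex.eq_15]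
  try have : _root_.True := by simp only [_root_.Cfsg.Agent.H416.LieArith.top.eq_2]
  try have : _root_.True := by simp only [_root_.Cfsg.Agent.H437.LT.expo.eq_10]
  try have : _root_.True := by simp only [_root_.Cfsg.Agent.H437.LT.expo.eq_14]
  try have : _root_.True := by simp only [_root_.Cfsg.Agent.H416.LieArith.top.eq_1]
  try have : _root_.True := by simp only [_root_.Cfsg.Agent.H437.LT.cof.eq_5]
  try have : _root_.True := by simp only [_root_.Cfsg.Agent.H437.LT.cof.eq_9]
  try have : _root_.True := by simp only [_root_.Cfsg.Agent.H416.LieArith.top.eq_15]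
  try have : _root_.True := by simp only [_root_.Cfsg.Agent.H437.LT.expo.eq_3]
  try have : _root_.True := by simp only [_root_.Cfsg.Agent.H437.LT.cof.eq_7]
  exact _root_.True.intro
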